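import Mathlib
import Cfsg.Prelude.Def_Characters
import Cfsg.Agent.Characters.Core
import Cfsg.Agent.Characters.Values

/-!
# Extension of all irreducible characters of a subgroup (helper715)

* `Ext H` : every irreducible character of `H` is the restriction of an irreducible character of `G`.
* `Compl H` : `H` has a normal complement.
* `Ext.exists_rep` : irreducible representations of `H` extend to `G`.
* `Ext.isConj` : `H` controls the `G`-fusion of its elements.
* `kap H` : the intersection of the kernels of the representations of `G` which are irreducible on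
  `H`.
* `Ext.quot` : `Ext` in quotients.
-/

set_option autoImplicit false

namespace Cfsg.Agent.H715

open Subgroup Cfsg.Agent.Characters

universe u

variable {G : Type u} [Group G]

/-- every irreducible character of `H` extends to `G` -/
def Ext (H : Subgroup G) : Prop :=
  ∀ θ : Cfsg.IrrCharacter H, ∃ χ : Cfsg.IrrCharacter G, ∀ x : H, (χ : G → ℂ) x = (θ : H → ℂ) x

/-- `H` has a normal complement -/
def Compl (H : Subgroup G) : Prop :=
  ∃ N : Subgroup G, N.Normal ∧ H ⊔ N = ⊤ ∧ H ⊓ N = ⊥

/-- A representation whose restriction along a homomorphism is irreducible is irreducible. -/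
theorem irr_of_comp {H V : Type*} [Group H] [AddCommGroup V] [Module ℂ V]
    (f : H →* G) (ρ : Representation ℂ G V)
    (h : Representation.IsIrreducible (ρ.comp f : Representation ℂ H V)) : ρ.IsIrreducible := by
  have hinj : ∀ σ : Subrepresentation ρ, ∃ τ : Subrepresentation (ρ.comp f : Representation ℂ H V),
      τ.toSubmodule = σ.toSubmodule := fun σ =>
    ⟨⟨σ.toSubmodule, fun g v hv => σ.apply_mem_toSubmodule (f g) hv⟩, rfl⟩
  have hn := h.toNontrivial
  refine { exists_pair_ne := ?_, eq_bot_or_eq_top := ?_ }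
  · refine ⟨⊥, ⊤, fun hbt => ?_⟩
    have h1 : (⊥ : Subrepresentation ρ).toSubmodule = (⊤ : Subrepresentation ρ).toSubmodule := by
      rw [hbt]
    have h2 : (⊥ : Subrepresentation (ρ.comp f : Representation ℂ H V)) = ⊤ :=
      Subrepresentation.toSubmodule_injective h1
    exact bot_ne_top h2
  · intro σ
    obtain ⟨τ, hτ⟩ := hinj σ
    rcases h.eq_bot_or_eq_top τ with h0 | h0
    · left
      apply Subrepresentation.toSubmodule_injective
      rw [← hτ, h0]
      rfl
    · right
      apply Subrepresentation.toSubmodule_injective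
      rw [← hτ, h0]
      rfl

/-- Pulling back along a surjection keeps irreducibility. -/
theorem irr_comp_surj {H V : Type*} [Group H] [AddCommGroup V] [Module ℂ V]
    (f : H →* G) (hf : Function.Surjective f) (ρ : Representation ℂ G V)
    (h : ρ.IsIrreducible) : Representation.IsIrreducible (ρ.comp f : Representation ℂ H V) := by
  have hs : IsSimpleOrder (Subrepresentation ρ) := h
  let F : Subrepresentation (ρ.comp f : Representation ℂ H V) → Subrepresentation ρ := fun W =>
    { toSubmodule := W.toSubmodule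
      apply_mem_toSubmodule := by
        intro g v hv
        obtain ⟨x, rfl⟩ := hf g
        exact W.apply_mem_toSubmodule x hv }
  refine
    { exists_pair_ne := ⟨⊥, ⊤, fun hbt => ?_⟩
      eq_bot_or_eq_top := fun σ => ?_ }
  · have h1 : (⊥ : Submodule ℂ V) = ⊤ := congrArg Subrepresentation.toSubmodule hbt
    have h2 : (⊥ : Subrepresentation ρ) = ⊤ := Subrepresentation.toSubmodule_injective h1
    exact bot_ne_top h2
  · rcases eq_bot_or_eq_top (F σ) with h1 | h1
    · left
      apply Subrepresentation.toSubmodule_injective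
      have h2 := congrArg Subrepresentation.toSubmodule h1
      exact h2
    · right
      apply Subrepresentation.toSubmodule_injective
      have h2 := congrArg Subrepresentation.toSubmodule h1
      exact h2

/-- The easy direction. -/
theorem Compl.ext {H : Subgroup G} (hc : Compl H) : Ext H := by
  obtain ⟨N, hN, hsup, hinf⟩ := hc
  have hinj : Function.Injective ((QuotientGroup.mk' N).comp H.subtype) := by
    rw [injective_iff_map_eq_one]
    intro x hx
    have h1 : (x : G) ∈ N := (QuotientGroup.eq_one_iff (x : G)).1 hx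
    have h2 : (x : G) ∈ H ⊓ N := ⟨x.2, h1⟩
    rw [hinf, mem_bot] at h2
    exact Subtype.ext h2
  have hsurj : Function.Surjective ((QuotientGroup.mk' N).comp H.subtype) := by
    intro q
    obtain ⟨g, rfl⟩ := QuotientGroup.mk'_surjective N q
    have hg : g ∈ H ⊔ N := by rw [hsup]; exact mem_top g
    rw [← SetLike.mem_coe, mul_normal] at hg
    obtain ⟨h, hh, n, hn, rfl⟩ := hg
    refine ⟨⟨h, hh⟩, ?_⟩
    show (h : G ⧸ N) = ((h * n : G) : G ⧸ N)
    rw [QuotientGroup.eq]
    simpa using hn
  let e : H ≃* G ⧸ N := MulEquiv.ofBijective _ ⟨hinj, hsurj⟩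
  let r : G →* H := e.symm.toMonoidHom.comp (QuotientGroup.mk' N)
  have hr : Function.Surjective r :=
    e.symm.surjective.comp (QuotientGroup.mk'_surjective N)
  intro θ
  refine ⟨⟨(θ : H → ℂ) ∘ r, Core.isIrr_comp r hr θ.2⟩, fun x => ?_⟩
  have hx : r x = x := by
    show e.symm (QuotientGroup.mk' N (x : G)) = x
    rw [MulEquiv.symm_apply_eq]
    rfl
  show (θ : H → ℂ) (r x) = (θ : H → ℂ) x
  rw [hx]

/-- Irreducible representations of `H` extend. -/
theorem Ext.exists_rep [Finite G] {H : Subgroup G} (hE : Ext H) {V : Type*} [AddCommGroup V]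
    [Module ℂ V] [FiniteDimensional ℂ V] (τ : Representation ℂ H V) (hτ : τ.IsIrreducible) :
    ∃ ρ : Representation ℂ G V, ∀ h : H, ρ h = τ h := by
  obtain ⟨χ, hχ⟩ := hE ⟨τ.character, Core.isIrrCharacter_of_rep τ hτ⟩
  obtain ⟨n, ρ0, -, h0⟩ := χ.2
  let ρ1 : Representation ℂ H (Fin n → ℂ) := ρ0.comp H.subtype
  have hch : ρ1.character = τ.character := by
    funext x
    have h1 := hχ x
    rw [← h0] at h1
    exact h1
  obtain ⟨e⟩ := Core.nonempty_equiv_of_character_eq ρ1 τ hch
  refine ⟨Core.transportRep e.toLinearEquiv ρ0, fun h => ?_⟩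
  rw [Core.transportRep_apply]
  ext v
  have h1 := Representation.IntertwiningMap.isIntertwining _ _ e.toIntertwiningMap h (e.toLinearEquiv.symm v)
  rw [LinearEquiv.conj_apply_apply]
  refine Eq.trans h1 ?_
  congr 1
  exact e.toLinearEquiv.apply_symm_apply v

/-- An element on which every irreducible character takes its degree is trivial; more generally
irreducible characters separate classes. -/
theorem isConj_of_irr {H : Type*} [Group H] [Finite H] {x y : H}
    (h : ∀ θ : Cfsg.IrrCharacter H, (θ : H → ℂ) x = (θ : H → ℂ) y) : IsConj x y := by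
  classical
  let L : (ConjClasses H → ℂ) →ₗ[ℂ] ℂ :=
    (LinearMap.proj (ConjClasses.mk x) : (ConjClasses H → ℂ) →ₗ[ℂ] ℂ) -
      (LinearMap.proj (ConjClasses.mk y) : (ConjClasses H → ℂ) →ₗ[ℂ] ℂ)
  have hL : L = 0 := by
    apply (Core.irrBasis H).ext
    intro θ
    simp only [L, LinearMap.sub_apply, LinearMap.proj_apply, Core.irrBasis_apply, LinearMap.zero_apply, h θ,
      sub_self]
  have h2 := LinearMap.congr_fun hL (Pi.single (ConjClasses.mk x) 1)
  simp only [L, LinearMap.sub_apply, LinearMap.proj_apply, LinearMap.zero_apply, Pi.single_eq_same] at h2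
  by_contra hc
  have h3 : ConjClasses.mk y ≠ ConjClasses.mk x := fun h0 =>
    hc (ConjClasses.mk_eq_mk_iff_isConj.1 h0).symm
  rw [Pi.single_eq_of_ne h3] at h2
  simp at h2

/-- `H` controls the fusion of its elements. -/
theorem Ext.isConj [Finite G] {H : Subgroup G} (hE : Ext H) {x y : H} (h : IsConj (x : G) (y : G)) :
    IsConj x y := by
  apply isConj_of_irr
  intro θ
  obtain ⟨χ, hχ⟩ := hE θ
  rw [← hχ, ← hχ]
  exact Core.classFunction_apply_eq (Core.isIrr_isClassFunction χ.2) h

/-- An element of a finite group killed by every irreducible representation is trivial. -/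
theorem eq_one_of_irr {H : Type*} [Group H] [Finite H] {x : H}
    (h : ∀ (n : ℕ) (τ : Representation ℂ H (Fin n → ℂ)), τ.IsIrreducible → τ x = 1) : x = 1 := by
  have h1 : IsConj x 1 := by
    apply isConj_of_irr
    rintro ⟨θ, n, τ, hτ, rfl⟩
    show τ.character x = τ.character 1
    simp only [Representation.character, h n τ hτ, map_one]
  exact isConj_one_left.1 h1

/-- Irreducible representations trivial on a normal subgroup `Z` see everything outside `Z`. -/
theorem mem_of_irr {H : Type*} [Group H] [Finite H] (Z : Subgroup H) [Z.Normal] {x : H}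
    (h : ∀ (n : ℕ) (τ : Representation ℂ H (Fin n → ℂ)), τ.IsIrreducible →
      (∀ z ∈ Z, τ z = 1) → τ x = 1) : x ∈ Z := by
  rw [← QuotientGroup.eq_one_iff]
  apply eq_one_of_irr
  intro n τ hτ
  refine h n (τ.comp (QuotientGroup.mk' Z)) (irr_comp_surj _ (QuotientGroup.mk'_surjective Z) τ hτ)
    (fun z hz => ?_)
  show τ (QuotientGroup.mk' Z z) = 1
  rw [show QuotientGroup.mk' Z z = 1 from (QuotientGroup.eq_one_iff z).2 hz, map_one]

/-- The intersection of the kernels of the representations of `G` whose restriction to `H` is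
irreducible. -/
def kap (H : Subgroup G) : Subgroup G :=
  ⨅ (n : ℕ) (ρ : Representation ℂ G (Fin n → ℂ))
    (_ : Representation.IsIrreducible (ρ.comp H.subtype : Representation ℂ H (Fin n → ℂ))),
    MonoidHom.ker ρ

theorem mem_kap {H : Subgroup G} {g : G} : g ∈ kap H ↔ ∀ (n : ℕ) (ρ : Representation ℂ G (Fin n → ℂ)),
    Representation.IsIrreducible (ρ.comp H.subtype : Representation ℂ H (Fin n → ℂ)) → ρ g = 1 := by
  simp only [kap, mem_iInf, MonoidHom.mem_ker]

theorem kap_normal (H : Subgroup G) : (kap H).Normal := by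
  constructor
  intro x hx g
  rw [mem_kap] at hx ⊢
  intro n ρ hρ
  rw [map_mul, map_mul, hx n ρ hρ, mul_one, ← map_mul, mul_inv_cancel, map_one]

theorem Ext.kap_inf [Finite G] {H : Subgroup G} (hE : Ext H) : H ⊓ kap H = ⊥ := by
  rw [eq_bot_iff]
  rintro x ⟨hxH, hx⟩
  rw [mem_bot]
  have h1 : (⟨x, hxH⟩ : H) = 1 := by
    apply eq_one_of_irr
    intro n τ hτ
    obtain ⟨ρ, hρ⟩ := hE.exists_rep τ hτ
    rw [← hρ]
    apply mem_kap.1 hx n ρ
    have : (ρ.comp H.subtype : Representation ℂ H (Fin n → ℂ)) = τ := by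
      ext h : 1
      exact hρ h
    rw [this]
    exact hτ
  exact congrArg Subtype.val h1

/-- `Ext` in a quotient. -/
theorem ext_map {H L : Subgroup G} [L.Normal]
    (hE : ∀ (n : ℕ) (τ : Representation ℂ H (Fin n → ℂ)), τ.IsIrreducible →
      (∀ h : H, (h : G) ∈ L → τ h = 1) →
      ∃ ρ : Representation ℂ G (Fin n → ℂ), (∀ h : H, ρ h = τ h) ∧ ∀ l ∈ L, ρ l = 1) :
    Ext (H.map (QuotientGroup.mk' L)) := by
  rintro ⟨θ, n, τ', hτ', rfl⟩
  let f : H →* H.map (QuotientGroup.mk' L) := (QuotientGroup.mk' L).subgroupMap H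
  have hf : Function.Surjective f := (QuotientGroup.mk' L).subgroupMap_surjective H
  obtain ⟨ρ, hρ, hL⟩ := hE n (τ'.comp f) (irr_comp_surj f hf τ' hτ') (by
    intro h hh
    have h1 : f h = 1 := Subtype.ext ((QuotientGroup.eq_one_iff (h : G)).2 hh)
    show τ' (f h) = 1
    rw [h1, map_one])
  let ρ' : Representation ℂ (G ⧸ L) (Fin n → ℂ) := QuotientGroup.lift L ρ hL
  have hρ' : ∀ x, ρ' (QuotientGroup.mk' L x) = ρ x := fun x => rfl
  have hres : ∀ y : H.map (QuotientGroup.mk' L), ρ' y = τ' y := by
    intro y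
    obtain ⟨h, rfl⟩ := hf y
    have h1 : ((f h : H.map (QuotientGroup.mk' L)) : G ⧸ L) = QuotientGroup.mk' L (h : G) := rfl
    rw [h1, hρ', hρ]
    rfl
  have hirr : ρ'.IsIrreducible := by
    apply irr_of_comp (H.map (QuotientGroup.mk' L)).subtype
    have : (ρ'.comp (H.map (QuotientGroup.mk' L)).subtype :
        Representation ℂ (H.map (QuotientGroup.mk' L)) (Fin n → ℂ)) = τ' := by
      ext y : 1
      exact hres y
    rw [this]
    exact hτ'
  refine ⟨⟨ρ'.character, n, ρ', hirr, rfl⟩, fun x => ?_⟩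
  show LinearMap.trace ℂ _ (ρ' x) = LinearMap.trace ℂ _ (τ' x)
  rw [hres]

/-- A complement in a quotient. -/
theorem compl_comap {H L : Subgroup G} [L.Normal] (hc : Compl (H.map (QuotientGroup.mk' L))) :
    ∃ K : Subgroup G, K.Normal ∧ L ≤ K ∧ H ⊔ K = ⊤ ∧ H ⊓ K = H ⊓ L := by
  obtain ⟨N, hN, hsup, hinf⟩ := hc
  have hLK : L ≤ N.comap (QuotientGroup.mk' L) := by
    intro x hx
    rw [mem_comap, show QuotientGroup.mk' L x = 1 from (QuotientGroup.eq_one_iff x).2 hx]
    exact N.one_mem
  refine ⟨N.comap (QuotientGroup.mk' L), hN.comap _, hLK, ?_, ?_⟩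
  · have h1 : (H ⊔ N.comap (QuotientGroup.mk' L)).map (QuotientGroup.mk' L) = ⊤ := by
      rw [Subgroup.map_sup, map_comap_eq_self_of_surjective (QuotientGroup.mk'_surjective L), hsup]
    rw [eq_top_iff]
    intro g _
    have h2 : QuotientGroup.mk' L g ∈ (H ⊔ N.comap (QuotientGroup.mk' L)).map (QuotientGroup.mk' L) := by
      rw [h1]; exact mem_top _
    obtain ⟨y, hy, hyg⟩ := h2
    have h3 : y⁻¹ * g ∈ L := by
      rw [← QuotientGroup.eq]
      exact hyg
    have h4 : g = y * (y⁻¹ * g) := by group
    rw [h4]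
    exact mul_mem hy (mem_sup_right (hLK h3))
  · apply le_antisymm
    · rintro x ⟨hxH, hx⟩
      refine ⟨hxH, ?_⟩
      have h1 : QuotientGroup.mk' L x ∈ H.map (QuotientGroup.mk' L) ⊓ N := ⟨⟨x, hxH, rfl⟩, hx⟩
      rw [hinf, mem_bot] at h1
      exact (QuotientGroup.eq_one_iff x).1 h1
    · exact inf_le_inf_left _ hLK

end Cfsg.Agent.H715
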