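import Mathlib
import Cfsg.Agent.H715.Basic
import Cfsg.Agent.H715.Coprime
import Cfsg.Agent.Characters.Clifford
import Cfsg.Agent.Characters.Linear
import Cfsg.Agent.S0135

/-!
# First reductions (helper715)
-/

set_option autoImplicit false

namespace Cfsg.Agent.H715

open Subgroup Cfsg.Agent.Characters

universe u

/-- The induction hypothesis. -/
def IH (G : Type u) [Group G] : Prop :=
  ∀ (G' : Type u) [Group G'] [Finite G'], Nat.card G' < Nat.card G →
    ∀ H' : Subgroup G', (Nat.card H').Coprime H'.index → Ext H' → Compl H'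

variable {G : Type u} [Group G] [Finite G]

theorem hall_map {H : Subgroup G} (hH : (Nat.card H).Coprime H.index) (L : Subgroup G) [L.Normal] :
    (Nat.card (H.map (QuotientGroup.mk' L))).Coprime (H.map (QuotientGroup.mk' L)).index := by
  refine Nat.Coprime.coprime_dvd_left ?_ (Nat.Coprime.coprime_dvd_right ?_ hH)
  · exact card_dvd_of_surjective _ ((QuotientGroup.mk' L).subgroupMap_surjective H)
  · exact index_map_dvd H (QuotientGroup.mk'_surjective L)

theorem card_quot_lt {L : Subgroup G} [L.Normal] (hL : L ≠ ⊥) : Nat.card (G ⧸ L) < Nat.card G := by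
  rw [Subgroup.card_eq_card_quotient_mul_card_subgroup L]
  have h1 : 1 < Nat.card L := by
    rw [Subgroup.one_lt_card_iff_ne_bot]
    exact hL
  have h2 : 0 < Nat.card (G ⧸ L) := Nat.card_pos
  nlinarith

/-- Passing to a quotient in the induction. -/
theorem exists_of_quot (ih : IH G) {H : Subgroup G} (hH : (Nat.card H).Coprime H.index)
    {L : Subgroup G} [L.Normal] (hL : L ≠ ⊥) (hE : Ext (H.map (QuotientGroup.mk' L))) :
    ∃ K : Subgroup G, K.Normal ∧ L ≤ K ∧ H ⊔ K = ⊤ ∧ H ⊓ K = H ⊓ L :=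
  compl_comap (ih _ (card_quot_lt hL) _ (hall_map hH L) hE)

/-- The normal subgroup on which the extension of `τ` is trivial. -/
theorem normalClosure_le_ker {Z : Subgroup G} {V : Type*} [AddCommGroup V] [Module ℂ V]
    (ρ : Representation ℂ G V) (h : ∀ z ∈ Z, ρ z = 1) : ∀ x ∈ normalClosure (Z : Set G), ρ x = 1 := by
  have h1 : normalClosure (Z : Set G) ≤ MonoidHom.ker ρ := normalClosure_le_normal (fun z hz => h z hz)
  exact fun x hx => h1 hx

theorem Ext.map_normalClosure {H : Subgroup G} (hE : Ext H) {Z : Subgroup G} (hZH : Z ≤ H) :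
    Ext (H.map (QuotientGroup.mk' (normalClosure (Z : Set G)))) := by
  apply ext_map
  intro n τ hτ h
  obtain ⟨ρ, hρ⟩ := hE.exists_rep τ hτ
  refine ⟨ρ, hρ, normalClosure_le_ker ρ (fun z hz => ?_)⟩
  rw [show z = ((⟨z, hZH hz⟩ : H) : G) from rfl, hρ]
  exact h _ (subset_normalClosure hz)

theorem Ext.inf_normalClosure {H : Subgroup G} (hE : Ext H) {Z : Subgroup G} (hZH : Z ≤ H)
    (hn : ∀ h ∈ H, ∀ z ∈ Z, h * z * h⁻¹ ∈ Z) : H ⊓ normalClosure (Z : Set G) = Z := by
  apply le_antisymm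
  · rintro x ⟨hxH, hx⟩
    have hZn : (Z.subgroupOf H).Normal := ⟨fun z hz h => hn h h.2 z hz⟩
    have h1 : (⟨x, hxH⟩ : H) ∈ Z.subgroupOf H := by
      apply mem_of_irr
      intro n τ hτ hz
      obtain ⟨ρ, hρ⟩ := hE.exists_rep τ hτ
      rw [← hρ]
      exact normalClosure_le_ker ρ (fun z hz' => by
        rw [show z = ((⟨z, hZH hz'⟩ : H) : G) from rfl, hρ]
        exact hz _ hz') x hx
    exact h1
  · exact le_inf hZH (fun z hz => subset_normalClosure hz)

theorem exists_K (ih : IH G) {H : Subgroup G} (hH : (Nat.card H).Coprime H.index) (hE : Ext H)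
    {Z : Subgroup G} (hZH : Z ≤ H) (hn : ∀ h ∈ H, ∀ z ∈ Z, h * z * h⁻¹ ∈ Z) (hZ : Z ≠ ⊥) :
    ∃ K : Subgroup G, K.Normal ∧ normalClosure (Z : Set G) ≤ K ∧ H ⊔ K = ⊤ ∧ H ⊓ K = Z := by
  have hL : normalClosure (Z : Set G) ≠ ⊥ := by
    intro h0
    apply hZ
    rw [eq_bot_iff, ← h0]
    exact fun z hz => subset_normalClosure hz
  obtain ⟨K, h1, h2, h3, h4⟩ := exists_of_quot ih hH hL (hE.map_normalClosure hZH)
  exact ⟨K, h1, h2, h3, h4.trans (hE.inf_normalClosure hZH hn)⟩

/-- `|G : K|` divides `|H|` if `HK = G`. -/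
theorem index_dvd_card {H K : Subgroup G} [K.Normal] (h : H ⊔ K = ⊤) : K.index ∣ Nat.card H := by
  have h1 : K.index = K.relIndex H := by
    rw [← relIndex_top_right, ← h, relIndex_sup_right]
  rw [h1]
  exact relIndex_dvd_card K H

theorem sup_eq_top_of_coprime {H N : Subgroup G} (h : (N.index).Coprime H.index) : H ⊔ N = ⊤ := by
  rw [← Subgroup.index_eq_one]
  exact Nat.eq_one_of_dvd_coprimes h (index_dvd_of_le le_sup_right) (index_dvd_of_le le_sup_left)

/-- Two `H`-normal subgroups with trivial intersection give a complement. -/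
theorem compl_of_two {H : Subgroup G} (hH : (Nat.card H).Coprime H.index) {K₁ K₂ : Subgroup G}
    (h₁ : K₁.Normal) (h₂ : K₂.Normal) (s₁ : H ⊔ K₁ = ⊤) (s₂ : H ⊔ K₂ = ⊤)
    (hi : (H ⊓ K₁) ⊓ (H ⊓ K₂) = ⊥) : Compl H := by
  refine ⟨K₁ ⊓ K₂, inferInstance, ?_, ?_⟩
  · apply sup_eq_top_of_coprime
    have h3 : (K₁ ⊓ K₂).index ∣ K₁.index * K₂.index := by
      rw [← relIndex_mul_index (inf_le_left : K₁ ⊓ K₂ ≤ K₁), inf_relIndex_left, mul_comm]
      exact Nat.mul_dvd_mul_left _ (relIndex_dvd_index_of_normal K₂ K₁)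
    refine Nat.Coprime.coprime_dvd_left h3 (Nat.Coprime.mul_left ?_ ?_)
    · exact Nat.Coprime.coprime_dvd_left (index_dvd_card s₁) hH
    · exact Nat.Coprime.coprime_dvd_left (index_dvd_card s₂) hH
  · rw [← hi]
    ext x
    simp only [mem_inf]
    tauto

theorem compl_of_kap (ih : IH G) {H : Subgroup G} (hH : (Nat.card H).Coprime H.index) (hE : Ext H)
    (hk : kap H ≠ ⊥) : Compl H := by
  have := kap_normal H
  obtain ⟨K, h1, h2, h3, h4⟩ := exists_of_quot ih hH hk (by
    apply ext_map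
    intro n τ hτ h
    obtain ⟨ρ, hρ⟩ := hE.exists_rep τ hτ
    refine ⟨ρ, hρ, fun l hl => mem_kap.1 hl n ρ ?_⟩
    have h5 : (ρ.comp H.subtype : Representation ℂ H (Fin n → ℂ)) = τ := by
      ext h : 1
      exact hρ h
    rw [h5]
    exact hτ)
  exact ⟨K, h1, h3, h4.trans hE.kap_inf⟩

/-- A normal subgroup of order prime to `|H|` is abelian. -/
theorem comm_of_coprime {H : Subgroup G} (hk : kap H = ⊥) {N : Subgroup G} [N.Normal]
    (hcop : (Nat.card N).Coprime (Nat.card H)) : ∀ x ∈ N, ∀ y ∈ N, x * y = y * x := by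
  classical
  have := Fintype.ofFinite G
  have := Fintype.ofFinite N
  have := Core.finite_irr (G := N)
  have := Fintype.ofFinite (Cfsg.IrrCharacter N)
  intro x hx y hy
  have hc : x * y * x⁻¹ * y⁻¹ ∈ kap H := by
    rw [mem_kap]
    intro n ρ hρ
    have hirr : ρ.IsIrreducible := irr_of_comp H.subtype ρ hρ
    have hn : n ∣ Nat.card H := by
      have h1 := Cfsg.Agent.S0135.result (ρ.comp H.subtype : Representation ℂ H (Fin n → ℂ))
      simpa using h1
    let χ : G → ℂ := ρ.character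
    have hχ : Cfsg.IsIrrCharacter G χ := ⟨n, ρ, hirr, rfl⟩
    obtain ⟨m, hm⟩ := Core.exists_nat_comb (Clifford.isCharacter_restrict N (Core.isIrr_isCharacter hχ))
    have hinner : ∀ ψ : Cfsg.IrrCharacter N, m ψ ≠ 0 →
        Cfsg.classInner (fun n : N => χ n) (ψ : N → ℂ) ≠ 0 := by
      intro ψ hψ
      rw [hm, Core.classInner_sum_nsmul_irr]
      exact_mod_cast hψ
    -- the degree of the constituents
    have hlin : ∀ ψ : Cfsg.IrrCharacter N, m ψ ≠ 0 → (ψ : N → ℂ) 1 = 1 := by
      intro ψ hψ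
      obtain ⟨a, ρ', hρ', hρψ⟩ := ψ.2
      have ha : (ψ : N → ℂ) 1 = a := by
        rw [← hρψ, Representation.char_one]
        simp
      have haN : a ∣ Nat.card N := by
        have h1 := Cfsg.Agent.S0135.result ρ'
        simpa using h1
      have hall : ∀ φ : Cfsg.IrrCharacter N, m φ ≠ 0 → (φ : N → ℂ) 1 = a := by
        intro φ hφ
        obtain ⟨g, hg⟩ := Clifford.exists_conj_of_constituents N hχ ψ.2 φ.2 (hinner ψ hψ) (hinner φ hφ)
        rw [hg]
        show (ψ : N → ℂ) ((MulAut.conjNormal g : MulAut N) 1) = a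
        rw [map_one, ha]
      have h2 : (n : ℂ) = (∑ φ : Cfsg.IrrCharacter N, m φ : ℕ) * a := by
        have h3 := congrFun hm 1
        have h4 : χ ((1 : N) : G) = n := by
          show ρ.character 1 = n
          rw [Representation.char_one]
          simp
        rw [← h4]
        refine h3.trans ?_
        rw [Finset.sum_apply]
        push_cast
        rw [Finset.sum_mul]
        refine Finset.sum_congr rfl fun φ _ => ?_
        by_cases h5 : m φ = 0
        · simp [h5]
        · rw [Pi.smul_apply, hall φ h5, nsmul_eq_mul]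
      have h6 : a ∣ n := by
        have h7 : n = (∑ φ : Cfsg.IrrCharacter N, m φ) * a := by exact_mod_cast h2
        rw [h7]
        exact Dvd.intro_left _ rfl
      have h8 : a = 1 := Nat.eq_one_of_dvd_coprimes hcop haN (h6.trans hn)
      rw [ha, h8, Nat.cast_one]
    let c : N := ⟨x, hx⟩ * ⟨y, hy⟩ * ⟨x, hx⟩⁻¹ * ⟨y, hy⟩⁻¹
    have hcc : ρ.character (c : G) = (Module.finrank ℂ (Fin n → ℂ) : ℂ) := by
      rw [← Representation.char_one ρ]
      have e1 := congrFun hm c
      have e2 := congrFun hm 1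
      show χ c = χ ((1 : N) : G)
      refine e1.trans (Eq.trans ?_ e2.symm)
      rw [Finset.sum_apply, Finset.sum_apply]
      refine Finset.sum_congr rfl fun φ _ => ?_
      by_cases h5 : m φ = 0
      · simp [h5]
      · obtain ⟨f, hf⟩ := Linear.exists_hom_of_isIrrCharacter φ.2 (hlin φ h5)
        rw [Pi.smul_apply, Pi.smul_apply, hf]
        congr 1
        show ((f c : ℂˣ) : ℂ) = ((f 1 : ℂˣ) : ℂ)
        congr 1
        show f (⟨x, hx⟩ * ⟨y, hy⟩ * ⟨x, hx⟩⁻¹ * ⟨y, hy⟩⁻¹) = f 1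
        rw [map_mul, map_mul, map_mul, map_inv, map_inv, map_one]
        rw [mul_right_comm (f ⟨x, hx⟩), mul_inv_cancel, one_mul, mul_inv_cancel]
    exact (Values.character_eq_finrank_iff ρ _).1 hcc
  rw [hk, mem_bot] at hc
  have h9 : x * y = (x * y * x⁻¹ * y⁻¹) * (y * x) := by group
  rw [h9, hc, one_mul]

end Cfsg.Agent.H715
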