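import Mathlib
import Cfsg.Agent.H715.Red

/-!
# The soluble case and the case `L = Z Q` (helper715)
-/

set_option autoImplicit false

namespace Cfsg.Agent.H715

open Subgroup

universe u

variable {G : Type u} [Group G] [Finite G]

/-- `|K : H ⊓ K|` divides `|G : H|`. -/
theorem relIndex_dvd {H K Z : Subgroup G} (hK : K.Normal) (hHK : H ⊓ K = Z) :
    Z.relIndex K ∣ H.index := by
  rw [← hHK, inf_relIndex_right]
  exact relIndex_dvd_index' H K

/-- Fusion in `K`. -/
theorem fuse_K {H K Z : Subgroup G} (hH : (Nat.card H).Coprime H.index) (hE : Ext H)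
    (hZH : Z ≤ H) (hn : ∀ h ∈ H, ∀ z ∈ Z, h * z * h⁻¹ ∈ Z) (hK : K.Normal) (hHK : H ⊓ K = Z)
    {z : G} (hz : z ∈ Z) {k : G} (hk : k ∈ K) (hkn : k ∈ normalizer (Z : Set G)) :
    ∃ a ∈ Z, ∃ c ∈ K, c * z = z * c ∧ k = a * c := by
  let M : Subgroup G := normalizer (Z : Set G)
  have hHM : H ≤ M := by
    intro h hh
    rw [mem_normalizer_iff]
    intro x
    refine ⟨fun hx => hn h hh x hx, fun hx => ?_⟩
    have h1 := hn h⁻¹ (inv_mem hh) _ hx
    have h2 : h⁻¹ * (h * x * h⁻¹) * h⁻¹⁻¹ = x := by group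
    rwa [h2] at h1
  have hZK : Z ≤ K := hHK ▸ inf_le_right
  have hZn : (Z.subgroupOf M).Normal := by
    constructor
    intro x hx m
    exact (mem_normalizer_iff.1 m.2 _).1 hx
  have hcop : ((Z.subgroupOf M).relIndex (K.subgroupOf M)).Coprime (Nat.card (H.subgroupOf M)) := by
    rw [← inf_subgroupOf_right K M, relIndex_subgroupOf inf_le_right,
      Nat.card_congr (subgroupOfEquivOfLe hHM).toEquiv]
    refine Nat.Coprime.coprime_dvd_left ?_ hH.symm
    refine Dvd.dvd.trans ?_ (relIndex_dvd hK hHK)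
    rw [← relIndex_mul_relIndex Z (K ⊓ M) K (le_inf hZK (hZH.trans hHM)) inf_le_left]
    exact Dvd.intro _ rfl
  obtain ⟨a, ha, c, hc, hkac⟩ := fuse (H.subgroupOf M) (K.subgroupOf M)
    ((centralizer {z}).subgroupOf M) (Z.subgroupOf M) (by
      rintro ⟨m, hm⟩
      have h1 : m * z * m⁻¹ ∈ Z := (mem_normalizer_iff.1 hm z).1 hz
      have h2 : IsConj (⟨z, hZH hz⟩ : H) (⟨m * z * m⁻¹, hZH h1⟩ : H) := by
        apply hE.isConj
        rw [isConj_iff]
        exact ⟨m, rfl⟩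
      obtain ⟨h, hh⟩ := isConj_iff.1 h2
      have h3 : (h : G) * z * (h : G)⁻¹ = m * z * m⁻¹ := congrArg Subtype.val hh
      refine ⟨⟨h, hHM h.2⟩, h.2, ⟨h⁻¹ * m, M.mul_mem (M.inv_mem (hHM h.2)) hm⟩, ?_, ?_⟩
      · show (h : G)⁻¹ * m ∈ centralizer {z}
        rw [mem_centralizer_singleton_iff]
        have h4 : m * z = (h : G) * z * (h : G)⁻¹ * m := by
          rw [h3]; group
        rw [mul_assoc, h4]
        group
      · apply Subtype.ext
        show m = (h : G) * ((h : G)⁻¹ * m)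
        group) hcop ⟨k, hkn⟩ hk
  refine ⟨a, ha, c, hc.2, ?_, congrArg Subtype.val hkac⟩
  have h5 : (c : G) ∈ centralizer {z} := hc.1
  rwa [mem_centralizer_singleton_iff] at h5

/-- An element whose order is prime to the index of a normal subgroup lies in it. -/
theorem mem_of_orderOf_coprime {K : Type*} [Group K] (N : Subgroup K) [N.Normal] {x : K}
    (h : (orderOf x).Coprime N.index) : x ∈ N := by
  rw [← QuotientGroup.eq_one_iff, ← orderOf_eq_one_iff]
  apply Nat.eq_one_of_dvd_coprimes h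
  · exact orderOf_map_dvd (QuotientGroup.mk' N) x
  · rw [Subgroup.index_eq_card]
    exact orderOf_dvd_natCard _

theorem characteristic_of_coprime {K : Type*} [Group K] [Finite K] (N : Subgroup K) [hN : N.Normal]
    (h : (Nat.card N).Coprime N.index) : N.Characteristic := by
  rw [characteristic_iff_map_le]
  intro φ
  rintro _ ⟨x, hx, rfl⟩
  apply mem_of_orderOf_coprime
  refine Nat.Coprime.coprime_dvd_left ?_ h
  have h1 : orderOf (φ.toMonoidHom x) ∣ orderOf x := orderOf_map_dvd φ.toMonoidHom x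
  refine h1.trans ?_
  have h2 : orderOf x = orderOf (⟨x, hx⟩ : N) := (Subgroup.orderOf_mk x hx).symm
  rw [h2]
  exact orderOf_dvd_natCard _

/-- The soluble case. -/
theorem compl_of_pgroup {H K Z : Subgroup G} (hH : (Nat.card H).Coprime H.index) (hE : Ext H)
    (hZH : Z ≤ H) (hn : ∀ h ∈ H, ∀ z ∈ Z, h * z * h⁻¹ ∈ Z) (hK : K.Normal) (hHK : H ⊓ K = Z)
    (hs : H ⊔ K = ⊤) {p : ℕ} [hp : Fact p.Prime] (hZp : IsPGroup p Z) (hZ : Z ≠ ⊥)
    (hab : ∀ x ∈ Z, ∀ y ∈ Z, x * y = y * x) : Compl H := by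
  have hZK : Z ≤ K := hHK ▸ inf_le_right
  have hpZ : p ∣ Nat.card Z := by
    obtain ⟨n, hn⟩ := IsPGroup.iff_card.1 hZp
    have h1 : Nat.card Z ≠ 1 := fun h0 => hZ (Subgroup.card_eq_one.1 h0)
    rw [hn] at h1 ⊢
    exact dvd_pow_self p (fun h0 => h1 (by rw [h0, pow_zero]))
  have h1 : IsPGroup p (Z.subgroupOf K) := hZp.comap_subtype
  have h2 : ¬ p ∣ (Z.subgroupOf K).index := by
    intro h0
    have h3 : p ∣ H.index := h0.trans (relIndex_dvd hK hHK)
    exact hp.out.one_lt.ne' (Nat.eq_one_of_dvd_coprimes hH (hpZ.trans (card_dvd_of_le hZH)) h3)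
  let P : Sylow p K := h1.toSylow h2
  have hP : normalizer (P : Set K) ≤ centralizer (P : Set K) := by
    intro k hk
    rw [mem_centralizer_iff]
    intro z hz
    have hz' : (z : G) ∈ Z := hz
    have hkn : (k : G) ∈ normalizer (Z : Set G) := by
      have hk1 : k ∈ normalizer ((Z.subgroupOf K : Subgroup K) : Set K) := hk
      rw [mem_normalizer_iff] at hk1 ⊢
      intro x
      constructor
      · intro hx
        exact (hk1 ⟨x, hZK hx⟩).1 hx
      · intro hx
        have hxK : x ∈ K := by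
          have := K.mul_mem (K.mul_mem (K.inv_mem k.2) (hZK hx)) k.2
          have e : (k : G)⁻¹ * (k * x * (k : G)⁻¹) * k = x := by group
          rwa [e] at this
        exact (hk1 ⟨x, hxK⟩).2 hx
    obtain ⟨a, ha, c, hc, hcz, hkac⟩ := fuse_K hH hE hZH hn hK hHK hz' k.2 hkn
    apply Subtype.ext
    show (z : G) * k = k * z
    rw [hkac, mul_assoc, hcz, ← mul_assoc, ← mul_assoc, hab a ha z hz']
  have hcomp := MonoidHom.ker_transferSylow_isComplement' P hP
  let N : Subgroup K := (MonoidHom.transferSylow P hP).ker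
  have hNi : N.index = Nat.card P := hcomp.symm.index_eq_card
  have hNc : Nat.card N = (P : Subgroup K).index := hcomp.index_eq_card.symm
  have hchar : N.Characteristic := by
    apply characteristic_of_coprime
    rw [hNi, hNc]
    obtain ⟨m, hm⟩ := IsPGroup.iff_card.1 P.isPGroup'
    rw [hm]
    exact (Nat.Coprime.pow_left m ((Nat.Prime.coprime_iff_not_dvd hp.out).2 P.not_dvd_index)).symm
  refine ⟨N.map K.subtype, inferInstance, ?_, ?_⟩
  · rw [eq_top_iff, ← hs]
    refine sup_le le_sup_left ?_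
    intro k hk
    have h3 : (⟨k, hk⟩ : K) ∈ N ⊔ (P : Subgroup K) := by rw [hcomp.sup_eq_top]; exact mem_top _
    rw [← SetLike.mem_coe, normal_mul] at h3
    obtain ⟨x, hx, y, hy, hxy⟩ := h3
    have h4 : k = x * y := (congrArg Subtype.val hxy).symm
    rw [h4]
    have hy' : (y : G) ∈ Z := hy
    exact mul_mem (mem_sup_right ⟨x, hx, rfl⟩) (mem_sup_left (hZH hy'))
  · rw [eq_bot_iff]
    rintro _ ⟨hxH, x, hx, rfl⟩
    have h3 : (x : G) ∈ Z := by rw [← hHK]; exact ⟨hxH, x.2⟩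
    have h4 : x ∈ N ⊓ (P : Subgroup K) := ⟨hx, h3⟩
    rw [hcomp.disjoint.eq_bot, mem_bot] at h4
    rw [mem_bot, h4]
    rfl

/-- The case `L = Z Q`. -/
theorem compl_of_inner {H K Z Q : Subgroup G} (hH : (Nat.card H).Coprime H.index) (hE : Ext H)
    (hZH : Z ≤ H) (hn : ∀ h ∈ H, ∀ z ∈ Z, h * z * h⁻¹ ∈ Z) (hK : K.Normal) (hHK : H ⊓ K = Z)
    (hs : H ⊔ K = ⊤) (hQn : Q.Normal) (hQ : ∀ x ∈ Q, ∀ y ∈ Q, x * y = y * x)
    (hQH : (Nat.card H).Coprime (Nat.card Q)) (hQK : Q ≤ K)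
    (hZQ : (Z ⊔ Q).Normal) (hc : ∀ z ∈ Z, (∀ t ∈ Z, z * t = t * z) → z = 1) : Compl H := by
  have hZK : Z ≤ K := hHK ▸ inf_le_right
  let C : Subgroup G := K ⊓ centralizer (Z : Set G)
  have hmemC : ∀ x, x ∈ C ↔ x ∈ K ∧ ∀ z ∈ Z, z * x = x * z := by
    intro x
    rw [mem_inf, mem_centralizer_iff]
    rfl
  -- `N_G(Z)` normalizes `C`
  have hCn : ∀ m ∈ normalizer (Z : Set G), ∀ c ∈ C, m * c * m⁻¹ ∈ C := by
    intro m hm c hcC
    rw [hmemC] at hcC ⊢
    refine ⟨hK.conj_mem c hcC.1 m, fun z hz => ?_⟩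
    have h1 : m⁻¹ * z * m ∈ Z := by
      have h2 := (mem_normalizer_iff.1 ((normalizer (Z : Set G)).inv_mem hm) z).1 hz
      rwa [inv_inv] at h2
    have h3 := hcC.2 _ h1
    have h4 : z * (m * c * m⁻¹) = m * (m⁻¹ * z * m * c) * m⁻¹ := by group
    have h5 : (m * c * m⁻¹) * z = m * (c * (m⁻¹ * z * m)) * m⁻¹ := by group
    rw [h4, h5, h3]
  -- Frattini
  have hfr : ∀ g : G, ∃ m ∈ normalizer (Z : Set G), ∃ q ∈ Q, g = q * m := by
    intro g
    obtain ⟨q, hq, h⟩ := frattini Q Z hQ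
      (Nat.Coprime.coprime_dvd_left (card_dvd_of_le hZH) hQH) g
      (fun z hz => hZQ.conj_mem z (mem_sup_left hz) g)
    refine ⟨q⁻¹ * g, ?_, q, hq, by group⟩
    have h2 : Z.map (MulAut.conj (q⁻¹ * g)).toMonoidHom ≤ Z := by
      rintro _ ⟨x, hx, rfl⟩
      exact h x hx
    have h3 : Z.map (MulAut.conj (q⁻¹ * g)).toMonoidHom = Z :=
      Subgroup.eq_of_le_of_card_ge h2
        (le_of_eq (Nat.card_congr (Z.equivMapOfInjective (MulAut.conj (q⁻¹ * g)).toMonoidHom
          (MulAut.conj (q⁻¹ * g)).injective).toEquiv))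
    rw [mem_normalizer_iff]
    intro x
    refine ⟨fun hx => h x hx, fun hx => ?_⟩
    rw [← h3] at hx
    obtain ⟨y, hy, hyx⟩ := hx
    have h4 : y = x := (MulAut.conj (q⁻¹ * g)).injective hyx
    rwa [← h4]
  have hN : (C ⊔ Q).Normal := by
    constructor
    intro x hx g
    rw [← SetLike.mem_coe, mul_normal] at hx
    obtain ⟨c, hcC, q, hq, rfl⟩ := hx
    obtain ⟨m, hm, q', hq', rfl⟩ := hfr g
    have h1 : q' * m * (c * q) * (q' * m)⁻¹ =
      q' * (m * c * m⁻¹) * (m * q * m⁻¹) * q'⁻¹ := by group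
    rw [h1]
    exact mul_mem (mul_mem (mul_mem (mem_sup_right hq') (mem_sup_left (hCn m hm c hcC)))
      (mem_sup_right (hQn.conj_mem q hq m))) (mem_sup_right (inv_mem hq'))
  -- `C` and `Z`
  have hCZ : ∀ x ∈ C, x ∈ Z → x = 1 := by
    intro x hx hxZ
    rw [hmemC] at hx
    exact hc x hxZ (fun t ht => (hx.2 t ht).symm)
  have hidx : Z.relIndex K ∣ H.index := relIndex_dvd hK hHK
  let M : Subgroup G := K ⊓ normalizer (Z : Set G)
  have hZM : Z ≤ M := le_inf hZK le_normalizer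
  have hidxM : Z.relIndex M ∣ H.index := by
    refine Dvd.dvd.trans ?_ hidx
    rw [← relIndex_mul_relIndex Z M K hZM inf_le_left]
    exact Dvd.intro _ rfl
  have hCM : C ≤ M := by
    intro c hcC
    refine ⟨hcC.1, ?_⟩
    exact centralizer_le_normalizer _ hcC.2
  have hcopC : (Nat.card C).Coprime (Nat.card H) := by
    apply Nat.Coprime.symm
    rw [Nat.coprime_iff_gcd_eq_one]
    by_contra hg
    obtain ⟨ℓ, hℓ, hd⟩ := Nat.exists_prime_and_dvd hg
    have := Fact.mk hℓ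
    obtain ⟨x, hx⟩ := exists_prime_orderOf_dvd_card' (G := C) ℓ (hd.trans (Nat.gcd_dvd_right _ _))
    have hZn : (Z.subgroupOf M).Normal := by
      constructor
      intro y hy m
      exact (mem_normalizer_iff.1 m.2.2 _).1 hy
    have h1 : (⟨x, hCM x.2⟩ : M) ∈ Z.subgroupOf M := by
      apply mem_of_orderOf_coprime
      rw [Subgroup.orderOf_mk, Subgroup.orderOf_coe, hx]
      exact Nat.Coprime.coprime_dvd_left (hd.trans (Nat.gcd_dvd_left _ _))
        (Nat.Coprime.coprime_dvd_right hidxM hH)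
    have h2 := hCZ x x.2 h1
    have h3 : x = 1 := Subtype.ext h2
    rw [h3, orderOf_one] at hx
    exact hℓ.one_lt.ne hx
  have hMC : M ≤ Z ⊔ C := by
    rw [← relIndex_eq_one]
    by_contra hne
    obtain ⟨ℓ, hℓ, hd⟩ := Nat.exists_prime_and_dvd hne
    have := Fact.mk hℓ
    have hℓZ : ¬ ℓ ∣ Nat.card Z := by
      intro h0
      have h1 : ℓ ∣ H.index := (hd.trans (relIndex_dvd_of_le_left M le_sup_left)).trans hidxM
      exact hℓ.one_lt.ne' (Nat.eq_one_of_dvd_coprimes hH (h0.trans (card_dvd_of_le hZH)) h1)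
    obtain ⟨S⟩ : Nonempty (Sylow ℓ M) := inferInstance
    let R : Subgroup G := (S : Subgroup M).map M.subtype
    have hRM : R ≤ M := map_subtype_le _
    have hR : IsPGroup ℓ R := S.isPGroup'.map _
    have hcent := centralize Z R ℓ hR hℓZ
      (fun r hr z hz => (mem_normalizer_iff.1 (hRM hr).2 z).1 hz)
      (fun z hz r hr => by
        obtain ⟨a, ha, c, -, h1, h2⟩ := fuse_K hH hE hZH hn hK hHK hz (hRM hr).1 (hRM hr).2
        exact ⟨a, ha, c, h1, h2⟩)
    have hRC : R ≤ Z ⊔ C := by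
      intro r hr
      exact mem_sup_right ((hmemC r).2 ⟨(hRM hr).1, fun z hz => (hcent r hr z hz).symm⟩)
    have h1 : ℓ ∣ R.relIndex M := hd.trans (relIndex_dvd_of_le_left M hRC)
    have h2 : R.relIndex M = (S : Subgroup M).index := by
      show (((S : Subgroup M).map M.subtype).subgroupOf M).index = _
      rw [subgroupOf, comap_map_eq_self_of_injective M.subtype_injective]
    rw [h2] at h1
    exact S.not_dvd_index h1
  refine ⟨C ⊔ Q, hN, ?_, ?_⟩
  · rw [eq_top_iff, ← hs]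
    refine sup_le le_sup_left ?_
    intro k hk
    obtain ⟨m, hm, q, hq, rfl⟩ := hfr k
    have hmK : m ∈ K := by
      have := K.mul_mem (K.inv_mem (hQK hq)) hk
      simpa using this
    have h1 : m ∈ Z ⊔ C := hMC ⟨hmK, hm⟩
    have h2 : Z ⊔ C ≤ H ⊔ (C ⊔ Q) := sup_le (hZH.trans le_sup_left) (le_sup_left.trans le_sup_right)
    exact mul_mem (mem_sup_right (mem_sup_right hq)) (h2 h1)
  · apply Disjoint.eq_bot
    apply disjoint_of_coprime_natCard
    exact Nat.Coprime.coprime_dvd_right (card_sup_dvd C Q) (Nat.Coprime.mul_right hcopC.symm hQH)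

end Cfsg.Agent.H715
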