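import Cfsg.Agent.H934.HeisChev
import Cfsg.Agent.H715.HeisDeg

/-!
# The special group `q^{1+8}` of the long roots in `F₄(q)`
-/

set_option autoImplicit false

namespace Cfsg.Agent.H715.HeisF4

open Cfsg.Lie Cfsg.Agent.ChevalleyStructure.Elts Cfsg.Agent.H934.HeisRoot Cfsg.Agent.H934.HeisChev

/-- list look-up -/
def at' {α : Type} (d : α) : List α → ℕ → α
  | [], _ => d
  | a :: _, 0 => a
  | _ :: l, n + 1 => at' d l n

/-- decode: 0 is `none` -/
def dec8 (a : ℕ) : Option (Fin 8) := if h : 1 ≤ a ∧ a ≤ 8 then some ⟨a - 1, by omega⟩ else none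

/-- The tables of the long roots of `F₄`. -/
def tab : HTab 8 6 where
  S := fun i => at' 0 [24, 26, 31, 32, 42, 43, 45, 46] i
  th := 47
  B := fun i => at' 0 [25, 30, 41, 22, 17, 6] i
  opp := fun i => ⟨7 - i, by omega⟩
  e := fun i => at' 0 [-1, -1, 1, -1, 1, -1, 1, 1] i
  next := fun b i => dec8 (at' 0 (at' [] [[2, 0, 4, 0, 6, 0, 8, 0], [3, 4, 0, 0, 7, 8, 0, 0], [5, 6, 7, 8, 0, 0, 0, 0],
    [0, 1, 0, 3, 0, 5, 0, 7], [0, 0, 1, 2, 0, 0, 5, 6], [0, 0, 0, 0, 1, 2, 3, 4]] b) i)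
  cc := fun b i => at' 0 (at' [] [[1, 1, -1, 1, -1, 1, -1, 1], [1, -1, 1, 1, 1, 1, 1, 1], [1, -1, 1, 1, 1, 1, 1, 1],
    [1, 1, 1, -1, 1, -1, 1, -1], [1, 1, 1, -1, 1, 1, 1, 1], [1, 1, 1, 1, 1, -1, 1, 1]] b) i
  ng := fun b => ⟨((b : ℕ) + 3) % 6, Nat.mod_lt _ (by norm_num)⟩
  p := 3

/-- path from the vertex `i` to the vertex `j` of the cube -/
def path (i j : Fin 8) : List (Fin 6) :=
  (if i.val % 2 = 0 ∧ j.val % 2 = 1 then [0] else if i.val % 2 = 1 ∧ j.val % 2 = 0 then [3] else []) ++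
  (if i.val / 2 % 2 = 0 ∧ j.val / 2 % 2 = 1 then [1] else if i.val / 2 % 2 = 1 ∧ j.val / 2 % 2 = 0 then [4] else []) ++
  (if i.val / 4 = 0 ∧ j.val / 4 = 1 then [2] else if i.val / 4 = 1 ∧ j.val / 4 = 0 then [5] else [])

theorem tab_ok : tab.Ok chevF4 where
  S_lt := by decide +kernel
  th_lt := by decide +kernel
  B_lt := by decide +kernel
  th_ne := by decide +kernel
  th_ne' := by decide +kernel
  S_ne := by decide +kernel
  opp_ne := by decide +kernel
  opp_opp := by decide +kernel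
  e_sq := by decide +kernel
  B_ne := by decide +kernel
  c_sq := by decide +kernel
  B_comm := by decide +kernel
  ng_spec := by decide +kernel
  p_lt := by decide +kernel
  p_th := by decide +kernel
  iso := fun i => ⟨path i (tab.opp i), tab.opp i, by revert i; decide +kernel⟩
  conn := fun i j => ⟨path i j, by revert i j; decide +kernel⟩

theorem hD : InList chevF4 := by simp [InList]

end Cfsg.Agent.H715.HeisF4
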