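import Cfsg.Agent.H715.LieBase
import Cfsg.Agent.H715.HeisF4
import Cfsg.Agent.H715.HeisDegTw
import Cfsg.Agent.H934.HeisE6
import Cfsg.Agent.H934.HeisE7
import Cfsg.Agent.H934.HeisE8
import Cfsg.Agent.H638.G2Iso
import Cfsg.Agent.H161.G2Elems
import Cfsg.Agent.S0248
import Cfsg.Agent.S2121
import Cfsg.Agent.S2122
import Cfsg.Agent.S2123
import Cfsg.Agent.S2124
import Cfsg.Agent.S2125
import Cfsg.Agent.S2127
import Cfsg.Agent.S2129
import Cfsg.Agent.S2130
import Cfsg.Agent.S2332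
import Cfsg.Agent.S2342
import Cfsg.Agent.S2343

/-!
# Rows of Lie type of `PartB`: the exceptional groups in odd characteristic not dividing `|Y|`
-/

set_option autoImplicit false
set_option linter.unusedSectionVars false

open Module Cfsg

universe u

namespace Cfsg.Agent.H715.Lie

open Cfsg.Agent.H324.Hall Cfsg.Agent.H715.HeisDeg Cfsg.Lie Cfsg.Agent.H934.HeisRoot Cfsg.Agent.H934.HeisChev
  Cfsg.Agent.ChevalleyStructure.Elts

/-- Degrees of a Chevalley group with a special group of root elements. -/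
theorem bigDeg_tab {D : ChevalleyDatum} (hD : InList D) {n k : ℕ} (T : HTab n k) (ok : T.Ok D) {F : Type*} [Field F]
    [Fintype F] [IsSimpleGroup ↥(D.group F)] {d : ℕ} (hd : d ^ 2 < Fintype.card F ^ n) : BigDeg ↥(D.group F) d := by
  classical
  have : Finite (Matrix.GeneralLinearGroup D.Idx F) := inferInstance
  refine bigDeg_of_data (T.rh hD ok F).toData (MonoidHom.id ↥(D.group F)) (a := (1 : F)) ?_ ?_
  · intro h
    exact one_ne_zero (xe_eq_one hD ok.th_lt h)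
  · rwa [Nat.card_fun, Nat.card_eq_fintype_card (α := F), Nat.card_eq_fintype_card (α := Fin n), Fintype.card_fin]

theorem sq_lt {c p f n : ℕ} (hc : c ^ 2 < 3 ^ n) (h2 : 2 ≤ n) (hp : 3 ≤ p) (hf : 1 ≤ f) :
    (c * f) ^ 2 < (p ^ f) ^ n := by
  have h1 := three_mul_le hp hf
  have h3 : 3 ≤ p ^ f := by omega
  have h4 : c ^ 2 * (3 * f) ^ 2 < 3 ^ n * (p ^ f) ^ 2 := by
    calc c ^ 2 * (3 * f) ^ 2 ≤ c ^ 2 * (p ^ f) ^ 2 := Nat.mul_le_mul_left _ (Nat.pow_le_pow_left h1 2)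
      _ < 3 ^ n * (p ^ f) ^ 2 := Nat.mul_lt_mul_of_pos_right hc (by positivity)
  obtain ⟨m, rfl⟩ : ∃ m, n = m + 2 := ⟨n - 2, by omega⟩
  have h5 : 3 ^ m * (p ^ f) ^ 2 ≤ (p ^ f) ^ (m + 2) := by
    rw [pow_add (p ^ f)]
    exact Nat.mul_le_mul_right _ (Nat.pow_le_pow_left h3 m)
  have h6 : 9 * (c * f) ^ 2 < 9 * (3 ^ m * (p ^ f) ^ 2) := by
    calc 9 * (c * f) ^ 2 = c ^ 2 * (3 * f) ^ 2 := by ring
      _ < 3 ^ (m + 2) * (p ^ f) ^ 2 := h4
      _ = _ := by ring
  omega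

section

variable {T : Type u} [Group T] [Finite T] [IsSimpleGroup T] {Y : Subgroup T} {n : ℕ} {S : Type u} [Group S]
  [IsSimpleGroup S] {A : Subgroup (MulAut T)}

theorem simple_of {X : Type*} [Group X] (e : T ≃* X) : IsSimpleGroup X :=
  have : Nontrivial X := e.symm.toEquiv.nontrivial
  IsSimpleGroup.isSimpleGroup_of_surjective e.toMonoidHom e.surjective

theorem nc_of {X : Type*} [Group X] (e : T ≃* X) (h : ∃ a b : T, a * b ≠ b * a) : ∃ a b : X, a * b ≠ b * a := by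
  obtain ⟨a, b, hab⟩ := h
  exact ⟨e a, e b, fun h => hab (e.injective (by rw [map_mul, map_mul, h]))⟩

variable {p : ℕ} (hp : p.Prime) (hp3 : 3 ≤ p) (hpY : ¬ p ∣ Nat.card Y)

include hp hp3 hpY

theorem row_e8 (f : Frame T Y n S A) {F : Type} [Field F] [Fintype F] [CharP F p] (e : T ≃* chevE8.group F) :
    Goal Y A f.conj_mem := by
  obtain ⟨d, hd, hF⟩ := exists_f (F := F) hp
  have := Fact.mk hp
  have hs := simple_of e
  refine goal_of_sub f hp hpY _ e (o := d) (le_of_eq (Cfsg.Agent.S2125.result p d hF)) ?_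
  refine bigDeg_tab Cfsg.Agent.H934.HeisE8.hD Cfsg.Agent.H934.HeisE8.tab Cfsg.Agent.H934.HeisE8.tab_ok ?_
  have h1 : Fintype.card chevE8.Idx = 248 := by
    rw [Fintype.card_sum, Fintype.card_fin, Fintype.card_fin]; rfl
  rw [h1, hF, mul_comm]
  exact sq_lt (by norm_num) (by norm_num) hp3 hd

theorem row_e7 (f : Frame T Y n S A) {F : Type} [Field F] [Fintype F] [CharP F p] (e : T ≃* chevE7.group F) :
    Goal Y A f.conj_mem := by
  obtain ⟨d, hd, hF⟩ := exists_f (F := F) hp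
  have := Fact.mk hp
  have hs := simple_of e
  refine goal_of_sub f hp hpY _ e (o := 2 * d) ?_ ?_
  · refine (le_of_eq (Cfsg.Agent.S2124.result p d hF)).trans ?_
    exact Nat.mul_le_mul_right _ (Nat.le_of_dvd (by norm_num) (Nat.gcd_dvd_left 2 (p ^ d - 1)))
  refine bigDeg_tab Cfsg.Agent.H934.HeisE7.hD Cfsg.Agent.H934.HeisE7.tab Cfsg.Agent.H934.HeisE7.tab_ok ?_
  have h1 : Fintype.card chevE7.Idx = 133 := by
    rw [Fintype.card_sum, Fintype.card_fin, Fintype.card_fin]; rfl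
  rw [h1, hF, show 2 * d * 133 = 266 * d by ring]
  exact sq_lt (by norm_num) (by norm_num) hp3 hd

theorem row_e6 (f : Frame T Y n S A) {F : Type} [Field F] [Fintype F] [CharP F p] (e : T ≃* chevE6.group F) :
    Goal Y A f.conj_mem := by
  obtain ⟨d, hd, hF⟩ := exists_f (F := F) hp
  have := Fact.mk hp
  have hs := simple_of e
  refine goal_of_sub f hp hpY _ e (o := 6 * d) ?_ ?_
  · refine (le_of_eq (Cfsg.Agent.S2123.result p d hF)).trans ?_
    apply Nat.mul_le_mul_right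
    have := Nat.le_of_dvd (by norm_num) (Nat.gcd_dvd_left 3 (p ^ d - 1))
    omega
  refine bigDeg_tab Cfsg.Agent.H934.HeisE6.hD Cfsg.Agent.H934.HeisE6.tab Cfsg.Agent.H934.HeisE6.tab_ok ?_
  have h1 : Fintype.card chevE6.Idx = 78 := by
    rw [Fintype.card_sum, Fintype.card_fin, Fintype.card_fin]; rfl
  rw [h1, hF, show 6 * d * 78 = 468 * d by ring]
  exact sq_lt (by norm_num) (by norm_num) hp3 hd

theorem row_f4 (f : Frame T Y n S A) {F : Type} [Field F] [Fintype F] [CharP F p] (e : T ≃* chevF4.group F) :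
    Goal Y A f.conj_mem := by
  obtain ⟨d, hd, hF⟩ := exists_f (F := F) hp
  have := Fact.mk hp
  have hs := simple_of e
  refine goal_of_sub f hp hpY _ e (o := d) ?_ ?_
  · refine (le_of_eq (Cfsg.Agent.S2122.result p d hF)).trans ?_
    have h1 : Nat.gcd 2 p = 1 := by
      rw [← Nat.coprime_iff_gcd_eq_one, Nat.coprime_primes Nat.prime_two hp]
      omega
    rw [h1, one_mul]
  refine bigDeg_tab HeisF4.hD HeisF4.tab HeisF4.tab_ok ?_
  have h1 : Fintype.card chevF4.Idx = 52 := by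
    rw [Fintype.card_sum, Fintype.card_fin, Fintype.card_fin]; rfl
  rw [h1, hF, mul_comm]
  exact sq_lt (by norm_num) (by norm_num) hp3 hd

theorem row_2e6 (f : Frame T Y n S A) {K : Type} [Field K] [Fintype K] [CharP K p] {q : ℕ} (hq : IsPrimePow q)
    (hK : Fintype.card K = q ^ 2) (e : T ≃* twistedE6 K q) : Goal Y A f.conj_mem := by
  obtain ⟨d, hd, hF⟩ := exists_f (F := K) hp
  have := Fact.mk hp
  have hs := simple_of e
  obtain ⟨p', d', hp', hd', rfl⟩ := hq
  have hp'' := Nat.prime_iff.2 hp'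
  have hpp : p' = p := by
    have h1 : p' ∣ p ^ d := by
      rw [← hF, hK, ← pow_mul]
      exact dvd_pow_self _ (by positivity)
    exact (Nat.prime_dvd_prime_iff_eq hp'' hp).1 (hp''.dvd_of_dvd_pow h1)
  subst hpp
  have hK' : Fintype.card K = p' ^ (2 * d') := by rw [hK, ← pow_mul, mul_comm]
  refine goal_of_sub f hp hpY _ e (o := 6 * d') ?_ ?_
  · refine (le_of_eq (Cfsg.Agent.S2130.result p' d' hK' hd')).trans ?_
    apply Nat.mul_le_mul_right
    have := Nat.le_of_dvd (by norm_num) (Nat.gcd_dvd_left 3 (p' ^ d' + 1))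
    omega
  refine bigDeg_2E6 (hp''.isPrimePow.pow (by omega)) hK ?_
  have h1 : Fintype.card chevE6.Idx = 78 := by
    rw [Fintype.card_sum, Fintype.card_fin, Fintype.card_fin]; rfl
  rw [h1, show 6 * d' * 78 = 468 * d' by ring]
  exact sq_lt (by norm_num) (by norm_num) hp3 hd'

theorem row_3d4 (f : Frame T Y n S A) {K : Type} [Field K] [Fintype K] [CharP K p] {q : ℕ} (hq : IsPrimePow q)
    (hK : Fintype.card K = q ^ 3) (e : T ≃* twistedD4 K q) : Goal Y A f.conj_mem := by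
  obtain ⟨d, hd, hF⟩ := exists_f (F := K) hp
  have := Fact.mk hp
  have hs := simple_of e
  have hX := nc_of e f.nc
  have hfin : Finite ↥(twistedD4 K q) := Finite.of_equiv T e.toEquiv
  have hbd := Cfsg.Agent.S2342.result q hq hK
  obtain ⟨p', d', hp', hd', rfl⟩ := hq
  have hp'' := Nat.prime_iff.2 hp'
  have hpp : p' = p := by
    have h1 : p' ∣ p ^ d := by
      rw [← hF, hK, ← pow_mul]
      exact dvd_pow_self _ (by positivity)
    exact (Nat.prime_dvd_prime_iff_eq hp'' hp).1 (hp''.dvd_of_dvd_pow h1)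
  subst hpp
  have hK' : Fintype.card K = p' ^ (3 * d') := by rw [hK, ← pow_mul, mul_comm]
  refine goal_of_sub f hp hpY _ e (o := 3 * d') (le_of_eq (Cfsg.Agent.S2129.result p' d' hK' hd')) ?_
  refine bigDeg_of_bound hX hbd ?_
  have h1 : Fintype.card chevD4.Idx = 28 := by
    rw [Fintype.card_sum, Fintype.card_fin, Fintype.card_fin]; rfl
  rw [h1]
  have h2 := three_mul_le hp3 hd'
  set q := p' ^ d' with hq
  have h3 : 3 ≤ q := by omega
  have h4 : 28 < q ^ 4 - q ^ 2 + 1 := by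
    have h5 : q ^ 4 = q ^ 2 * q ^ 2 := by ring
    have h6 : 9 ≤ q ^ 2 := by nlinarith
    have h7 : q ^ 2 + 72 ≤ q ^ 4 := by rw [h5]; nlinarith
    omega
  calc 3 * d' * 28 ≤ q * 28 := Nat.mul_le_mul_right _ h2
    _ < _ := Nat.mul_lt_mul_of_pos_left h4 (by omega)

end

section

variable {T : Type u} [Group T] [Finite T] [IsSimpleGroup T] {Y : Subgroup T} {n : ℕ} {S : Type u} [Group S]
  [IsSimpleGroup S] {A : Subgroup (MulAut T)}

theorem row_ree (hpY : ¬ 3 ∣ Nat.card Y) (f : Frame T Y n S A) (h : Cfsg.Lie.IsoRee T) : Goal Y A f.conj_mem := by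
  obtain ⟨K, _, _, m, hm, hK, ⟨e⟩⟩ := h
  have := Fact.mk Nat.prime_three
  have : CharP K 3 := charP_of_card_eq_prime_pow hK
  have hs := simple_of e
  have hX := nc_of e f.nc
  have hfin : Finite ↥(twistedG2 K (3 ^ m)) := Finite.of_equiv T e.toEquiv
  have hbd := Cfsg.Agent.S2343.result m hm hK
  refine goal_of_sub f Nat.prime_three hpY _ e (o := 2 * m + 1) (le_of_eq (Cfsg.Agent.S2127.result hm hK)) ?_
  refine bigDeg_of_bound hX hbd ?_
  have h1 : Fintype.card chevG2.Idx = 14 := by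
    rw [Fintype.card_sum, Fintype.card_fin, Fintype.card_fin]; rfl
  rw [h1]
  have h2 : 3 * (2 * m + 1) ≤ 3 ^ (2 * m + 1) := three_mul_le le_rfl (by omega)
  have h27 : 27 ≤ 3 ^ (2 * m + 1) := by
    calc 27 = 3 ^ 3 := by norm_num
      _ ≤ _ := Nat.pow_le_pow_right (by norm_num) (by omega)
  set q := 3 ^ (2 * m + 1) with hq
  have h5 : 27 * q ≤ q ^ 2 := by rw [pow_two]; exact Nat.mul_le_mul_right _ h27
  omega

end

/-! ### `G₂(q)` -/

section

open Cfsg.Agent.H161.Oct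

/-- the homomorphism from `SL₃(q)` -/
noncomputable def slG2 (F : Type*) [Field F] : Matrix.SpecialLinearGroup (Fin 3) F →* ↥(Cfsg.Lie.G2 F) where
  toFun P := ⟨(toE F).symm (slM F P), by
    rw [← toE_mem, MulEquiv.apply_symm_apply]; exact slM_mem P⟩
  map_one' := by
    apply Subtype.ext
    show (toE F).symm (slM F 1) = 1
    rw [map_one, map_one]
  map_mul' P Q := by
    apply Subtype.ext
    show (toE F).symm (slM F (P * Q)) = (toE F).symm (slM F P) * (toE F).symm (slM F Q)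
    rw [map_mul, map_mul]

theorem slG2_inj (F : Type*) [Field F] : Function.Injective (slG2 F) := by
  intro P Q h
  have h1 : (toE F).symm (slM F P) = (toE F).symm (slM F Q) := congrArg Subtype.val h
  exact slM_inj ((toE F).symm.injective h1)

theorem bigDeg_g2 {F : Type*} [Field F] [Fintype F] (h3 : 3 ≤ Fintype.card F) (h4 : Fintype.card F ≠ 4)
    [IsSimpleGroup ↥(Cfsg.Lie.G2 F)] {d : ℕ} (hd : d < Fintype.card F ^ 2 + Fintype.card F) :
    BigDeg ↥(Cfsg.Lie.G2 F) d := by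
  classical
  have hbd := (Cfsg.Agent.S2332.result (F := F) 3 le_rfl ⟨by simp; omega, by simpa using h4, by simp, by simp⟩).1
  have hperf : commutator (Matrix.SpecialLinearGroup (Fin 3) F) = ⊤ := Cfsg.Agent.S0248.result 3 le_rfl
  obtain ⟨P, hP⟩ : ∃ P : Matrix.SpecialLinearGroup (Fin 3) F, P ≠ 1 := by
    refine ⟨⟨Matrix.transvection 0 1 1, Matrix.det_transvection_of_ne _ _ (by decide) _⟩, fun h => ?_⟩
    have h1 := congrFun (congrFun (congrArg Subtype.val h) 0) 1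
    simp [Matrix.transvection] at h1
  refine bigDeg_of_irr hperf (slG2 F) ⟨P, fun h => hP (slG2_inj F (by rw [h, map_one]))⟩ fun k ρ hρ hk => ?_
  refine hd.trans_le (le_trans ?_ (hbd k ρ hρ hk))
  rw [Nat.le_div_iff_mul_le (by omega)]
  obtain ⟨q, hq⟩ : ∃ q, Fintype.card F = q + 1 := ⟨Fintype.card F - 1, by omega⟩
  rw [hq, Nat.add_sub_cancel]
  have : (q + 1) ^ 3 = ((q + 1) ^ 2 + (q + 1)) * q + (q + 1) := by ring
  omega

end

section

variable {T : Type u} [Group T] [Finite T] [IsSimpleGroup T] {Y : Subgroup T} {n : ℕ} {S : Type u} [Group S]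
  [IsSimpleGroup S] {A : Subgroup (MulAut T)}

theorem row_g2 {p : ℕ} (hp : p.Prime) (hp3 : 3 ≤ p) (hpY : ¬ p ∣ Nat.card Y) (tab : OrdDiv.OrderTable.{u})
    (hS : IsKnownSimple' S) (f : Frame T Y n S A) {F : Type} [Field F] [Fintype F] [CharP F p]
    (e : T ≃* chevG2.group F) : Goal Y A f.conj_mem := by
  obtain ⟨d, hd, hF⟩ := exists_f (F := F) hp
  have := Fact.mk hp
  have h0 := three_mul_le hp3 hd
  have h3 : 3 ≤ p ^ d := by omega
  by_cases hq3 : Fintype.card F = 3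
  · exfalso
    have hN : Nat.card T = 4245696 := by
      rw [Nat.card_congr e.toEquiv, tab.g2 F, hq3]
      norm_num
    exact f.false_of_nil tab hS hN [(2, 6), (3, 6), (7, 1), (13, 1)] (by decide +kernel) (by norm_num)
      (by decide +kernel)
  have hout := Cfsg.Agent.S2121.result p d hF h3
  obtain ⟨e'⟩ := Cfsg.Agent.H638.G2Iso.equiv (F := F)
  have e2 : T ≃* ↥(Cfsg.Lie.G2 F) := e.trans e'.symm
  have hs := simple_of e2
  refine goal_of_sub f hp hpY _ e2 (o := if p = 3 then 2 * d else d) (OutLe.congr e' (le_of_eq hout)) ?_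
  rw [Fintype.card_fin]
  have hodd : Odd p := hp.odd_of_ne_two (by omega)
  have hoq : Odd (Fintype.card F) := by rw [hF]; exact hodd.pow
  refine bigDeg_g2 (by rw [hF]; exact h3) (by rintro h; rw [h] at hoq; exact absurd hoq (by decide)) ?_
  rw [hF] at hq3 hoq ⊢
  have h5 : 5 ≤ p ^ d := by
    obtain ⟨k, hk⟩ := hoq
    omega
  have h6 : (if p = 3 then 2 * d else d) ≤ 2 * d := by split_ifs <;> omega
  set q := p ^ d with hq
  have h7 : 5 * q ≤ q ^ 2 := by rw [pow_two]; exact Nat.mul_le_mul_right _ h5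
  have h8 : (if p = 3 then 2 * d else d) * 8 ≤ 2 * d * 8 := Nat.mul_le_mul_right _ h6
  omega

/-- **The exceptional Chevalley groups.** -/
theorem row_excChev {p : ℕ} (hp : p.Prime) (hp3 : 3 ≤ p) (hpY : ¬ p ∣ Nat.card Y) (tab : OrdDiv.OrderTable.{u})
    (hS : IsKnownSimple' S) (f : Frame T Y n S A) (h : IsExceptionalChevChar p T) : Goal Y A f.conj_mem := by
  obtain ⟨F, _, _, _, h | ⟨⟨e⟩⟩ | ⟨⟨e⟩⟩ | ⟨⟨e⟩⟩ | ⟨⟨e⟩⟩⟩ := h
  · obtain ⟨-, ⟨e⟩⟩ := h
    exact row_g2 hp hp3 hpY tab hS f e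
  · exact row_f4 hp hp3 hpY f e
  · exact row_e6 hp hp3 hpY f e
  · exact row_e7 hp hp3 hpY f e
  · exact row_e8 hp hp3 hpY f e

/-- **The groups `²E₆(q)`, `³D₄(q)`.** -/
theorem row_twisted {p : ℕ} (hp : p.Prime) (hp3 : 3 ≤ p) (hpY : ¬ p ∣ Nat.card Y) (f : Frame T Y n S A)
    (h : IsTwistedE6D4Char p T) : Goal Y A f.conj_mem := by
  obtain ⟨K, _, _, _, q, hq, ⟨hK, ⟨e⟩⟩ | ⟨hK, ⟨e⟩⟩⟩ := h
  · exact row_2e6 hp hp3 hpY f hq hK e
  · exact row_3d4 hp hp3 hpY f hq hK e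

end

end Cfsg.Agent.H715.Lie
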