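import Mathlib
import Cfsg.Prelude.Def_Characters
import Cfsg.Prelude.Def_Blocks
import Cfsg.Agent.Characters.Core
import Cfsg.Agent.Characters.Values
import Cfsg.Agent.Characters.Central
import Cfsg.Agent.Characters.CentralCharacter
import Cfsg.Agent.Characters.Counting
import Cfsg.Agent.Blocks.Residue
import Cfsg.Agent.Blocks.ExistsModular

/-!
# Representations of `p'`-groups in characteristic `p` and complex characters (helper715)

`exists_irr_of_rep` : if `Y` is a finite group of order prime to `p` with a nontrivial representation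
of degree `n` over a finite field of characteristic `p`, then `Y` has a nontrivial irreducible complex
character of degree at most `n`.
-/

set_option autoImplicit false
set_option linter.unusedSectionVars false

namespace Cfsg.Agent.H715.LiftDeg

open Module Polynomial Cfsg.Agent.Characters

section linear

variable {K V : Type*} [Field K] [AddCommGroup V] [Module K V] [FiniteDimensional K V]

theorem idem_of_scaled {E : Module.End K V} {c : K} (hc : c ≠ 0) (h : E * E = c • E) :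
    IsIdempotentElem (c⁻¹ • E) := by
  show (c⁻¹ • E) * (c⁻¹ • E) = c⁻¹ • E
  rw [smul_mul_smul_comm, h, smul_smul, mul_assoc, inv_mul_cancel₀ hc, mul_one]

theorem range_smul_inv {E : Module.End K V} {c : K} (hc : c ≠ 0) :
    LinearMap.range (c⁻¹ • E) = LinearMap.range E :=
  LinearMap.range_smul E c⁻¹ (inv_ne_zero hc)

theorem ker_smul_inv {E : Module.End K V} {c : K} (hc : c ≠ 0) :
    LinearMap.ker (c⁻¹ • E) = LinearMap.ker E :=
  LinearMap.ker_smul E c⁻¹ (inv_ne_zero hc)

theorem charpoly_smul_one (c : K) : (c • (1 : Module.End K V)).charpoly = (X - C c) ^ finrank K V := by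
  classical
  let b := finBasis K V
  rw [← LinearMap.charpoly_toMatrix _ b]
  have h1 : LinearMap.toMatrix b b (c • (1 : Module.End K V)) = Matrix.diagonal (fun _ => c) := by
    rw [map_smul, show (1 : Module.End K V) = LinearMap.id from rfl, LinearMap.toMatrix_id,
      Matrix.smul_one_eq_diagonal]
  rw [h1, Matrix.charpoly_diagonal, Finset.prod_const, Finset.card_univ, Fintype.card_fin]

/-- The characteristic polynomial of a scaled idempotent. -/
theorem charpoly_scaled {E : Module.End K V} {c : K} (hc : c ≠ 0) (h : E * E = c • E) :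
    E.charpoly = (X - C c) ^ (finrank K (LinearMap.range E)) * X ^ (finrank K (LinearMap.ker E)) := by
  have hid := idem_of_scaled hc h
  obtain ⟨hcompl, -⟩ := (LinearMap.isIdempotentElem_iff_eq_projection_range_ker).1 hid
  rw [range_smul_inv hc, ker_smul_inv hc] at hcompl
  let φ := Submodule.prodEquivOfIsCompl _ _ hcompl
  have h1 : E = φ.conj (LinearMap.prodMap (c • (1 : Module.End K (LinearMap.range E)))
      (0 : Module.End K (LinearMap.ker E))) := by
    apply LinearMap.ext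
    intro v
    obtain ⟨⟨a, b⟩, rfl⟩ := φ.surjective v
    rw [LinearEquiv.conj_apply_apply, LinearEquiv.symm_apply_apply]
    obtain ⟨a, w, rfl⟩ := a
    obtain ⟨b, hb⟩ := b
    have e1 : E (E w) = c • E w := LinearMap.congr_fun h w
    have e2 : E b = 0 := hb
    simp only [φ, Submodule.coe_prodEquivOfIsCompl', map_add, e1, e2, LinearMap.prodMap_apply,
      LinearMap.smul_apply, Module.End.one_apply, LinearMap.zero_apply, Submodule.coe_smul,
      ZeroMemClass.coe_zero]
  conv_lhs => rw [h1]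
  rw [LinearEquiv.charpoly_conj, LinearMap.charpoly_prodMap, charpoly_smul_one, LinearMap.charpoly_zero]

theorem trace_scaled {E : Module.End K V} {c : K} (hc : c ≠ 0) (h : E * E = c • E) :
    LinearMap.trace K V E = c * finrank K (LinearMap.range E) := by
  have h1 := ((LinearMap.isProj_range_iff_isIdempotentElem _).2 (idem_of_scaled hc h)).trace
  rw [range_smul_inv hc, map_smul, smul_eq_mul] at h1
  rw [← h1, mul_inv_cancel_left₀ hc]

end linear

section transfer

theorem pow_eq_of_mul {k : Type*} [Field k] {a b : ℕ} {P Q : k[X]} (hP : P.coeff 0 ≠ 0)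
    (hQ : Q.coeff 0 ≠ 0) (h : P * X ^ a = Q * X ^ b) : a = b := by
  have hP0 : P ≠ 0 := fun h0 => hP (by rw [h0, coeff_zero])
  have hQ0 : Q ≠ 0 := fun h0 => hQ (by rw [h0, coeff_zero])
  have h1 := congrArg natTrailingDegree h
  rw [natTrailingDegree_mul_X_pow hP0, natTrailingDegree_mul_X_pow hQ0] at h1
  have h2 : P.natTrailingDegree = 0 := natTrailingDegree_eq_zero.2 (Or.inr hP)
  have h3 : Q.natTrailingDegree = 0 := natTrailingDegree_eq_zero.2 (Or.inr hQ)
  omega

theorem charpoly_map_scaled {A F ι : Type*} [CommRing A] [Field F] [Fintype ι] [DecidableEq ι]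
    (φ : A →+* F) (N : Matrix ι ι A) (c : A) (hN : N * N = c • N) (hφ : φ c ≠ 0) :
    (N.charpoly).map φ = (X - C (φ c)) ^ (finrank F (LinearMap.range (Matrix.toLin' (N.map φ)))) *
      X ^ (finrank F (LinearMap.ker (Matrix.toLin' (N.map φ)))) := by
  rw [← Matrix.charpoly_map, ← Matrix.charpoly_toLin']
  apply charpoly_scaled hφ
  rw [Module.End.mul_eq_comp, ← Matrix.toLin'_mul, ← map_smul]
  congr 1
  have h1 : (N * N).map φ = (c • N).map φ := by rw [hN]
  rw [Matrix.map_mul] at h1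
  refine h1.trans ?_
  ext i j
  simp [Matrix.map_apply, Matrix.smul_apply]

/-- The rank of a scaled idempotent does not change under reduction. -/
theorem finrank_transfer {A K k ι : Type*} [CommRing A] [Field K] [Field k] [Fintype ι]
    [DecidableEq ι] (f : A →+* K) (hf : Function.Injective f) (g : A →+* k) (N : Matrix ι ι A) (c : A)
    (hN : N * N = c • N) (hc : f c ≠ 0) (hc' : g c ≠ 0) :
    finrank K (LinearMap.range (Matrix.toLin' (N.map f))) =
      finrank k (LinearMap.range (Matrix.toLin' (N.map g))) := by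
  have h1 := charpoly_map_scaled f N c hN hc
  have h2 := charpoly_map_scaled g N c hN hc'
  have h3 : N.charpoly = (X - C c) ^ (finrank K (LinearMap.range (Matrix.toLin' (N.map f)))) *
      X ^ (finrank K (LinearMap.ker (Matrix.toLin' (N.map f)))) := by
    apply Polynomial.map_injective f hf
    rw [h1]
    simp
  rw [h3] at h2
  simp only [Polynomial.map_mul, Polynomial.map_pow, Polynomial.map_sub, Polynomial.map_X,
    Polynomial.map_C] at h2
  have h4 : ∀ n : ℕ, (((X - C (g c)) ^ n : k[X])).coeff 0 ≠ 0 := by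
    intro n
    rw [coeff_zero_eq_eval_zero]
    simp [hc']
  have h5 := pow_eq_of_mul (h4 _) (h4 _) h2
  have h6 := LinearMap.finrank_range_add_finrank_ker (Matrix.toLin' (N.map f))
  have h7 := LinearMap.finrank_range_add_finrank_ker (Matrix.toLin' (N.map g))
  rw [Module.finrank_fintype_fun_eq_card] at h6 h7
  omega

end transfer

section main

variable {Y : Type*} [Group Y] [Fintype Y] [DecidableEq Y]

/-- values of characters as algebraic integers -/
noncomputable def ai {χ : Y → ℂ} (hχ : Cfsg.IsIrrCharacter Y χ) (y : Y) : Cfsg.AlgInt :=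
  ⟨χ y, by
    obtain ⟨n, ρ, -, rfl⟩ := hχ
    exact Values.character_isIntegral ρ y⟩

theorem ai_coe {χ : Y → ℂ} (hχ : Cfsg.IsIrrCharacter Y χ) (y : Y) : (ai hχ y : ℂ) = χ y := rfl

/-- the matrix of `|Y| e_χ` acting on the group algebra -/
noncomputable def NM {χ : Y → ℂ} (hχ : Cfsg.IsIrrCharacter Y χ) : Matrix Y Y Cfsg.AlgInt :=
  fun u z => ai hχ 1 * ai hχ (z * u⁻¹)

theorem NM_sq {χ : Y → ℂ} (hχ : Cfsg.IsIrrCharacter Y χ) :
    NM hχ * NM hχ = (Nat.card Y : Cfsg.AlgInt) • NM hχ := by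
  ext u w
  rw [Matrix.mul_apply, Matrix.smul_apply]
  have h1 := Central.sum_char_mul_char_inv_mul hχ (w * u⁻¹)
  have h2 : χ 1 ≠ 0 := Core.isIrr_apply_one_ne_zero hχ
  have h3 : ∑ z : Y, χ (z * u⁻¹) * χ (w * z⁻¹) = (Nat.card Y : ℂ) * χ (w * u⁻¹) / χ 1 := by
    rw [← h1]
    refine Fintype.sum_equiv ((Equiv.inv Y).trans (Equiv.mulLeft w)) _ _ (fun z => ?_)
    show χ (z * u⁻¹) * χ (w * z⁻¹) = χ (w * z⁻¹) * χ ((w * z⁻¹)⁻¹ * (w * u⁻¹))
    rw [mul_comm]
    congr 2
    group
  have h4 : ((∑ z : Y, NM hχ u z * NM hχ z w : Cfsg.AlgInt) : ℂ) =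
      (((Nat.card Y : Cfsg.AlgInt) • NM hχ u w : Cfsg.AlgInt) : ℂ) := by
    have e1 : ((∑ z : Y, NM hχ u z * NM hχ z w : Cfsg.AlgInt) : ℂ) =
        ∑ z : Y, (χ 1 * χ (z * u⁻¹)) * (χ 1 * χ (w * z⁻¹)) := by
      push_cast
      rfl
    have e2 : (((Nat.card Y : Cfsg.AlgInt) • NM hχ u w : Cfsg.AlgInt) : ℂ) =
        (Nat.card Y : ℂ) * (χ 1 * χ (w * u⁻¹)) := by
      rw [smul_eq_mul]
      push_cast
      rfl
    rw [e1, e2]
    have e3 : ∑ z : Y, (χ 1 * χ (z * u⁻¹)) * (χ 1 * χ (w * z⁻¹)) =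
        χ 1 ^ 2 * ∑ z : Y, χ (z * u⁻¹) * χ (w * z⁻¹) := by
      rw [Finset.mul_sum]
      exact Finset.sum_congr rfl fun z _ => by ring
    rw [e3, h3]
    field_simp
  exact h4

theorem finrank_complex {χ : Y → ℂ} (hχ : Cfsg.IsIrrCharacter Y χ) {d : ℕ} (hd : χ 1 = d) :
    finrank ℂ (LinearMap.range (Matrix.toLin' ((NM hχ).map (algebraMap Cfsg.AlgInt ℂ)))) = d ^ 2 := by
  have hc : (Nat.card Y : ℂ) ≠ 0 := Nat.cast_ne_zero.2 Nat.card_pos.ne'
  have hE : Matrix.toLin' ((NM hχ).map (algebraMap Cfsg.AlgInt ℂ)) *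
      Matrix.toLin' ((NM hχ).map (algebraMap Cfsg.AlgInt ℂ)) =
      (Nat.card Y : ℂ) • Matrix.toLin' ((NM hχ).map (algebraMap Cfsg.AlgInt ℂ)) := by
    rw [Module.End.mul_eq_comp, ← Matrix.toLin'_mul, ← map_smul]
    congr 1
    have h1 : (NM hχ * NM hχ).map (algebraMap Cfsg.AlgInt ℂ) =
        ((Nat.card Y : Cfsg.AlgInt) • NM hχ).map (algebraMap Cfsg.AlgInt ℂ) := by rw [NM_sq]
    rw [Matrix.map_mul] at h1
    refine h1.trans ?_
    ext i j
    simp [Matrix.map_apply, Matrix.smul_apply]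
  have h2 := trace_scaled hc hE
  rw [Matrix.trace_toLin'_eq, Matrix.trace] at h2
  have h3 : ∑ i : Y, Matrix.diag ((NM hχ).map (algebraMap Cfsg.AlgInt ℂ)) i =
      (Nat.card Y : ℂ) * (d : ℂ) ^ 2 := by
    have h4 : ∀ i : Y, Matrix.diag ((NM hχ).map (algebraMap Cfsg.AlgInt ℂ)) i = (d : ℂ) ^ 2 := by
      intro i
      show χ 1 * χ (i * i⁻¹) = _
      rw [mul_inv_cancel, hd, sq]
    rw [Finset.sum_congr rfl (fun i _ => h4 i), Finset.sum_const, Finset.card_univ,
      Nat.card_eq_fintype_card, nsmul_eq_mul]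
  rw [h3] at h2
  have h5 := mul_left_cancel₀ hc h2
  exact_mod_cast h5.symm

variable {k : Type*} [Field k]

/-- `ρ(e_χ)` up to the factor `|Y|` -/
noncomputable def PP (red : Cfsg.AlgInt →+* k) {n : ℕ} (ρ : Y →* Matrix (Fin n) (Fin n) k)
    {χ : Y → ℂ} (hχ : Cfsg.IsIrrCharacter Y χ) : Matrix (Fin n) (Fin n) k :=
  ∑ u : Y, red (ai hχ 1 * ai hχ u⁻¹) • ρ u

theorem degree_le (red : Cfsg.AlgInt →+* k) (hcY : (Nat.card Y : k) ≠ 0) {n : ℕ}
    (ρ : Y →* Matrix (Fin n) (Fin n) k) {χ : Y → ℂ}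
    (hχ : Cfsg.IsIrrCharacter Y χ) (hP : PP red ρ hχ ≠ 0) {d : ℕ} (hd : χ 1 = d) : d ≤ n := by
  have hinj : Function.Injective (algebraMap Cfsg.AlgInt ℂ) := Subtype.val_injective
  have htr := finrank_transfer (algebraMap Cfsg.AlgInt ℂ) hinj red (NM hχ) (Nat.card Y : Cfsg.AlgInt)
    (NM_sq hχ) (by
      rw [map_natCast]
      exact Nat.cast_ne_zero.2 Nat.card_pos.ne') (by rw [map_natCast]; exact hcY)
  rw [finrank_complex hχ hd] at htr
  -- the representation of the group algebra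
  let Φ : (Y → k) →ₗ[k] Matrix (Fin n) (Fin n) k :=
    ∑ u : Y, (LinearMap.proj u : (Y → k) →ₗ[k] k).smulRight (ρ u)
  have hΦ : ∀ f, Φ f = ∑ u : Y, f u • ρ u := by
    intro f
    simp only [Φ, LinearMap.sum_apply, LinearMap.smulRight_apply, LinearMap.proj_apply]
  -- the central scalars
  have hθ : ∀ a : Y, ∃ θ : Cfsg.AlgInt, ∀ b : Y, ∑ g : Y, ai hχ (g * a * g⁻¹ * b) = θ * ai hχ b := by
    intro a
    have hint : IsIntegral ℤ ((Nat.card Y : ℂ) * χ a / χ 1) := by
      obtain ⟨m, ρ', hρ', hχ'⟩ := hχ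
      have := hρ'
      have h1 := CentralCharacter.isIntegral_index_mul_character_div ρ' a
      have h2 : χ 1 = (Module.finrank ℂ (Fin m → ℂ) : ℂ) := by
        rw [← hχ', Representation.char_one]
      have h3 : (Nat.card Y : ℂ) * χ a / χ 1 =
          (Nat.card (Subgroup.centralizer ({a} : Set Y)) : ℂ) *
            (((Subgroup.centralizer ({a} : Set Y)).index : ℂ) * ρ'.character a /
              (Module.finrank ℂ (Fin m → ℂ) : ℂ)) := by
        rw [← (Subgroup.centralizer ({a} : Set Y)).card_mul_index, h2, hχ']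
        push_cast
        ring
      rw [h3]
      exact IsIntegral.mul (isIntegral_natCast _) h1
    refine ⟨⟨_, hint⟩, fun b => Subtype.ext ?_⟩
    have h1 := Central.sum_char_conj_mul hχ a b
    push_cast
    refine Eq.trans ?_ (h1.trans ?_)
    · rfl
    · show _ = (Nat.card Y : ℂ) * χ a / χ 1 * χ b
      ring
  choose θ hθ using hθ
  have hcl : ∀ g x : Y, ai hχ (g * x * g⁻¹) = ai hχ x := by
    intro g x
    exact Subtype.ext (Core.isIrr_isClassFunction hχ x g)
  -- injectivity on the block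
  have hker : ∀ f ∈ LinearMap.range (Matrix.toLin' ((NM hχ).map red)), Φ f = 0 → f = 0 := by
    rintro _ ⟨w, rfl⟩ hf
    set f := Matrix.toLin' ((NM hχ).map red) w with hfdef
    have hfu : ∀ u, f u = ∑ z : Y, red (ai hχ 1 * ai hχ (z * u⁻¹)) * w z := by
      intro u
      rw [hfdef, Matrix.toLin'_apply]
      rfl
    rw [hΦ] at hf
    -- the averaged function
    have h1 : ∀ h : Y, ∀ u : Y, ∑ g : Y, f (g⁻¹ * u * g * h⁻¹) =
        (∑ z : Y, red (θ (z * h)) * w z) * red (ai hχ 1 * ai hχ u⁻¹) := by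
      intro h u
      have e1 : ∀ g : Y, f (g⁻¹ * u * g * h⁻¹) =
          ∑ z : Y, red (ai hχ 1) * red (ai hχ (g * (z * h) * g⁻¹ * u⁻¹)) * w z := by
        intro g
        rw [hfu]
        refine Finset.sum_congr rfl fun z _ => ?_
        rw [map_mul]
        congr 3
        rw [← hcl g (z * (g⁻¹ * u * g * h⁻¹)⁻¹)]
        congr 1
        group
      simp only [e1]
      rw [Finset.sum_comm, Finset.sum_mul]
      refine Finset.sum_congr rfl fun z _ => ?_
      rw [← Finset.sum_mul, ← Finset.mul_sum, ← map_sum, hθ, map_mul, map_mul]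
      ring
    have h2 : ∀ h : Y, ∑ u : Y, (∑ g : Y, f (g⁻¹ * u * g * h⁻¹)) • ρ u = 0 := by
      intro h
      have e1 : ∑ u : Y, (∑ g : Y, f (g⁻¹ * u * g * h⁻¹)) • ρ u =
          ∑ g : Y, ∑ u : Y, f (g⁻¹ * u * g * h⁻¹) • ρ u := by
        simp only [Finset.sum_smul]
        rw [Finset.sum_comm]
      rw [e1]
      refine Finset.sum_eq_zero fun g _ => ?_
      have e2 : ∑ u : Y, f (g⁻¹ * u * g * h⁻¹) • ρ u = ∑ v : Y, f v • ρ (g * v * h * g⁻¹) := by
        refine Fintype.sum_equiv (((Equiv.mulLeft g⁻¹).trans (Equiv.mulRight g)).trans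
          (Equiv.mulRight h⁻¹)) _ _ (fun u => ?_)
        show f (g⁻¹ * u * g * h⁻¹) • ρ u =
          f (g⁻¹ * u * g * h⁻¹) • ρ (g * (g⁻¹ * u * g * h⁻¹) * h * g⁻¹)
        congr 2
        group
      rw [e2]
      have e3 : ∑ v : Y, f v • ρ (g * v * h * g⁻¹) = ρ g * (∑ v : Y, f v • ρ v) * ρ (h * g⁻¹) := by
        rw [Finset.mul_sum, Finset.sum_mul]
        refine Finset.sum_congr rfl fun v _ => ?_
        rw [mul_smul_comm, smul_mul_assoc, ← map_mul, ← map_mul]
        congr 2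
        group
      rw [e3, hf, mul_zero, zero_mul]
    have h3 : ∀ h : Y, ∑ z : Y, red (θ (z * h)) * w z = 0 := by
      intro h
      have e1 := h2 h
      simp only [h1 h, mul_smul] at e1
      rw [← Finset.smul_sum] at e1
      exact (smul_eq_zero.1 e1).resolve_right hP
    funext y
    have h4 := h1 y⁻¹ 1
    rw [h3 y⁻¹, zero_mul] at h4
    have h5 : ∀ g : Y, f (g⁻¹ * 1 * g * y⁻¹⁻¹) = f y := by
      intro g
      congr 1
      group
    simp only [h5, Finset.sum_const, Finset.card_univ, nsmul_eq_mul] at h4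
    have h6 : ((Fintype.card Y : ℕ) : k) ≠ 0 := by
      rw [← Nat.card_eq_fintype_card]
      exact hcY
    exact (mul_eq_zero.1 h4).resolve_left h6
  -- count dimensions
  have hle : d ^ 2 ≤ n ^ 2 := by
    rw [htr]
    have hinj2 : Function.Injective (Φ.domRestrict (LinearMap.range (Matrix.toLin' ((NM hχ).map red)))) := by
      rw [← LinearMap.ker_eq_bot, LinearMap.ker_eq_bot']
      rintro ⟨f, hf⟩ h0
      exact Subtype.ext (hker f hf h0)
    refine (LinearMap.finrank_le_finrank_of_injective hinj2).trans ?_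
    rw [Module.finrank_matrix, Module.finrank_self, Fintype.card_fin]
    exact le_of_eq (by ring)
  exact (Nat.pow_le_pow_iff_left two_ne_zero).1 hle

theorem exists_irr_aux (red : Cfsg.AlgInt →+* k) (hcY : (Nat.card Y : k) ≠ 0) {n : ℕ}
    (ρ : Y →* Matrix (Fin n) (Fin n) k) (hρ : ∃ y, ρ y ≠ 1) :
    ∃ χ : Y → ℂ, Cfsg.IsIrrCharacter Y χ ∧ χ ≠ 1 ∧ ∃ d : ℕ, χ 1 = d ∧ d ≤ n := by
  by_contra hcon
  push Not at hcon
  have hP : ∀ {χ : Y → ℂ} (hχ : Cfsg.IsIrrCharacter Y χ), χ ≠ 1 → PP red ρ hχ = 0 := by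
    intro χ hχ h1
    by_contra h0
    obtain ⟨d, -, hd⟩ := Core.isIrr_apply_one hχ
    exact absurd (degree_le red hcY ρ hχ h0 hd) (not_le.2 (hcon χ hχ h1 d hd))
  have := Core.finite_irr (G := Y)
  have := Fintype.ofFinite (Cfsg.IrrCharacter Y)
  have hsum : ∑ χ : Cfsg.IrrCharacter Y, PP red ρ χ.2 = (Nat.card Y : k) • (1 : Matrix (Fin n) (Fin n) k) := by
    have e1 : ∑ χ : Cfsg.IrrCharacter Y, PP red ρ χ.2 =
        ∑ u : Y, red (∑ χ : Cfsg.IrrCharacter Y, ai χ.2 1 * ai χ.2 u⁻¹) • ρ u := by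
      simp only [PP]
      rw [Finset.sum_comm]
      refine Finset.sum_congr rfl fun u _ => ?_
      rw [map_sum, Finset.sum_smul]
    have e2 : ∀ u : Y, (∑ χ : Cfsg.IrrCharacter Y, ai χ.2 1 * ai χ.2 u⁻¹) =
        if u = 1 then (Nat.card Y : Cfsg.AlgInt) else 0 := by
      intro u
      apply Subtype.ext
      have h1 := Counting.sum_irr_one_mul (G := Y) u⁻¹
      have h2 : ((∑ χ : Cfsg.IrrCharacter Y, ai χ.2 1 * ai χ.2 u⁻¹ : Cfsg.AlgInt) : ℂ) =
          ∑ χ : Cfsg.IrrCharacter Y, (χ : Y → ℂ) 1 * (χ : Y → ℂ) u⁻¹ := by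
        push_cast
        rfl
      rw [h2, h1]
      by_cases hu : u = 1
      · simp [hu]
      · simp [hu]
    rw [e1]
    simp only [e2]
    rw [Finset.sum_eq_single (1 : Y)]
    · rw [if_pos rfl, map_natCast, map_one]
    · intro u _ hu
      rw [if_neg hu, map_zero, zero_smul]
    · exact fun h => absurd (Finset.mem_univ _) h
  have htriv : ∑ χ : Cfsg.IrrCharacter Y, PP red ρ χ.2 = ∑ u : Y, ρ u := by
    rw [Finset.sum_eq_single (⟨1, Core.isIrr_one⟩ : Cfsg.IrrCharacter Y)]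
    · simp only [PP]
      refine Finset.sum_congr rfl fun u _ => ?_
      have h1 : ∀ y : Y, ai (Core.isIrr_one (G := Y)) y = 1 := fun y => Subtype.ext rfl
      rw [h1, h1, mul_one, map_one, one_smul]
    · intro χ _ hχ
      exact hP χ.2 (fun h => hχ (Subtype.ext h))
    · exact fun h => absurd (Finset.mem_univ _) h
  rw [htriv] at hsum
  obtain ⟨y, hy⟩ := hρ
  apply hy
  have h1 : ρ y * ∑ u : Y, ρ u = ∑ u : Y, ρ u := by
    rw [Finset.mul_sum]
    simp only [← map_mul]
    exact Fintype.sum_equiv (Equiv.mulLeft y) _ _ (fun u => rfl)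
  rw [hsum, mul_smul_comm, mul_one] at h1
  have h2 : (Nat.card Y : k) • (ρ y - 1) = 0 := by rw [smul_sub, h1, sub_self]
  exact sub_eq_zero.1 ((smul_eq_zero.1 h2).resolve_left hcY)

end main

/-- An algebraically closed residue field. -/
theorem exists_residue {p : ℕ} (hp : p.Prime) : ∃ (k : Type) (_ : Field k) (_ : Cfsg.AlgInt →+* k),
    IsAlgClosed k ∧ CharP k p := by
  obtain ⟨M, hM⟩ := Blocks.ExistsModular.exists_isPModular hp
  have hmax := hM.2.1
  let _ : Field (Cfsg.AlgInt ⧸ M) := Ideal.Quotient.field M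
  refine ⟨Cfsg.AlgInt ⧸ M, inferInstance, Ideal.Quotient.mk M, ?_, Blocks.Residue.charP_residue hM⟩
  apply IsAlgClosed.of_exists_root
  intro f hf hirr
  exact Blocks.Residue.exists_root_of_monic f hf hirr.natDegree_pos.ne'

/-- **Lifting the degree.** -/
theorem exists_irr_of_matrix {Y : Type*} [Group Y] [Finite Y] {F : Type*} [Field F] [Finite F] {p : ℕ}
    [hp : Fact p.Prime] [CharP F p] (hY : ¬ p ∣ Nat.card Y) {n : ℕ}
    (ρ : Y →* Matrix (Fin n) (Fin n) F) (hρ : ∃ y, ρ y ≠ 1) :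
    ∃ χ : Y → ℂ, Cfsg.IsIrrCharacter Y χ ∧ χ ≠ 1 ∧ ∃ d : ℕ, χ 1 = d ∧ d ≤ n := by
  classical
  have := Fintype.ofFinite Y
  obtain ⟨k, _, red, hcl, hchar⟩ := exists_residue hp.out
  have hcY : (Nat.card Y : k) ≠ 0 := by
    rw [Ne, CharP.cast_eq_zero_iff k p]
    exact hY
  let _ : Algebra (ZMod p) k := ZMod.algebra _ p
  let _ : Algebra (ZMod p) F := ZMod.algebra _ p
  have : Module.Finite (ZMod p) F := Module.Finite.of_finite
  let ι : F →ₐ[ZMod p] k := IsAlgClosed.lift
  let ρ' : Y →* Matrix (Fin n) (Fin n) k :=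
    { toFun := fun y => (ρ y).map ι
      map_one' := by rw [map_one, Matrix.map_one _ (map_zero ι) (map_one ι)]
      map_mul' := fun a b => by rw [map_mul]; exact Matrix.map_mul (f := ι.toRingHom) }
  refine exists_irr_aux red hcY ρ' ?_
  obtain ⟨y, hy⟩ := hρ
  refine ⟨y, fun h => hy ?_⟩
  have h1 : (ρ y).map ι = (1 : Matrix (Fin n) (Fin n) F).map ι := by
    refine Eq.trans h ?_
    rw [Matrix.map_one _ (map_zero ι) (map_one ι)]
  exact Matrix.map_injective ι.toRingHom.injective h1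

/-- **Lifting the degree.** -/
theorem exists_irr_of_rep {Y : Type*} [Group Y] [Finite Y] {F : Type*} [Field F] [Finite F] {p : ℕ}
    [hp : Fact p.Prime] [CharP F p] (hY : ¬ p ∣ Nat.card Y) {V : Type*} [AddCommGroup V] [Module F V]
    [FiniteDimensional F V] (ρ : Y →* Module.End F V) (hρ : ∃ y, ρ y ≠ 1) :
    ∃ χ : Y → ℂ, Cfsg.IsIrrCharacter Y χ ∧ χ ≠ 1 ∧ ∃ d : ℕ, χ 1 = d ∧ d ≤ finrank F V := by
  let e : Module.End F V ≃ₐ[F] Matrix (Fin (finrank F V)) (Fin (finrank F V)) F :=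
    LinearMap.toMatrixAlgEquiv (finBasis F V)
  let f : Y →* Matrix (Fin (finrank F V)) (Fin (finrank F V)) F :=
    { toFun := fun t => e (ρ t)
      map_one' := by rw [map_one, map_one]
      map_mul' := fun a b => by rw [map_mul, map_mul] }
  refine exists_irr_of_matrix hY f ?_
  obtain ⟨y, hy⟩ := hρ
  refine ⟨y, fun h => hy ?_⟩
  have h2 : e (ρ y) = e 1 := by rw [map_one]; exact h
  exact e.injective h2

end Cfsg.Agent.H715.LiftDeg
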