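import Mathlib
import Cfsg.Agent.H120.Wt

/-!
# Getting rid of an abelian radical of coprime degree (helper715)

`exists_small_rep` : let `R ≤ C ≤ X`, `R` abelian, `C / R ≅ T` perfect, `C` and `R` normalized by `N`,
and let `ρ` be a representation of `X` which is irreducible on `N`, of degree prime to `|R|`. If some
element of `[C, C]` acts nontrivially, then `T` has a nontrivial representation of degree at most the
degree of `ρ`.
-/

set_option autoImplicit false
set_option linter.unusedSectionVars false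

namespace Cfsg.Agent.H715.Weights

open Module Subgroup
open scoped IsMulCommutative

/-- matrices from linear maps -/
theorem exists_GL {T V : Type*} [Group T] [AddCommGroup V] [Module ℂ V] [FiniteDimensional ℂ V]
    (σ : T →* (V →ₗ[ℂ] V)) {t : T} (ht : σ t ≠ 1) {n : ℕ} (hn : finrank ℂ V = n) :
    ∃ τ : T →* Matrix.GeneralLinearGroup (Fin n) ℂ, τ t ≠ 1 := by
  let e : (V →ₗ[ℂ] V) ≃ₐ[ℂ] Matrix (Fin n) (Fin n) ℂ :=
    LinearMap.toMatrixAlgEquiv (finBasisOfFinrankEq ℂ V hn)
  let f : T →* Matrix (Fin n) (Fin n) ℂ :=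
    { toFun := fun t => e (σ t)
      map_one' := by rw [map_one, map_one]
      map_mul' := fun a b => by rw [map_mul, map_mul] }
  refine ⟨MonoidHom.toHomUnits f, fun h => ht ?_⟩
  have h1 : e (σ t) = 1 := congrArg Units.val h
  have h2 : e (σ t) = e 1 := by rw [map_one]; exact h1
  exact e.injective h2

/-- a nontrivial permutation representation gives a nontrivial linear one -/
theorem exists_GL_of_perm {T Λ : Type*} [Group T] [Finite Λ] (g : T →* Equiv.Perm Λ) {t : T}
    (ht : g t ≠ 1) :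
    ∃ τ : T →* Matrix.GeneralLinearGroup (Fin (Nat.card Λ)) ℂ, τ t ≠ 1 := by
  classical
  have := Fintype.ofFinite Λ
  let σ : T →* ((Λ → ℂ) →ₗ[ℂ] (Λ → ℂ)) :=
    { toFun := fun t => LinearMap.funLeft ℂ ℂ ((g t)⁻¹ : Equiv.Perm Λ)
      map_one' := by
        ext v l
        simp
      map_mul' := fun a b => by
        apply LinearMap.ext
        intro v
        funext l
        simp [LinearMap.funLeft_apply, mul_inv_rev] }
  have h1 : σ t ≠ 1 := by
    intro h0
    apply ht
    ext l
    have h2 := congrFun (LinearMap.congr_fun h0 (Pi.single l (1 : ℂ))) (g t l)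
    have h3 : σ t (Pi.single l (1 : ℂ)) (g t l) = (Pi.single l (1 : ℂ) : Λ → ℂ) ((g t)⁻¹ (g t l)) := rfl
    have h6 : (g t)⁻¹ (g t l) = l := (g t).symm_apply_apply l
    rw [h3, h6, Pi.single_eq_same] at h2
    by_contra h4
    have h5 : (Pi.single l (1 : ℂ) : Λ → ℂ) (g t l) = 0 := Pi.single_eq_of_ne h4 _
    exact one_ne_zero (h2.trans h5)
  exact exists_GL σ h1 (by rw [Module.finrank_fintype_fun_eq_card, Nat.card_eq_fintype_card])

variable {X : Type*} [Group X] [Finite X] {M : Type*} [AddCommGroup M] [Module ℂ M]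
  [FiniteDimensional ℂ M] (ρ : Representation ℂ X M) (R : Subgroup X) [IsMulCommutative R]

/-- the action of `R` -/
def act : H120.AddAct (Additive R) M where
  toFun a := ρ (a.toMul : X)
  map_zero' := by simp
  map_add' a b := by simp

/-- the weight spaces -/
def wt (ψ : AddChar (Additive R) ℂ) : Submodule ℂ M := (act ρ R).wt ψ

variable {ρ R}

theorem mem_wt {ψ : AddChar (Additive R) ℂ} {v : M} :
    v ∈ wt ρ R ψ ↔ ∀ r : R, ρ r v = ψ (Additive.ofMul r) • v :=
  ⟨fun h r => h (Additive.ofMul r), fun h a => h a.toMul⟩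

/-- the twisted character -/
def tw (x : normalizer (R : Set X)) (ψ : AddChar (Additive R) ℂ) : AddChar (Additive R) ℂ :=
  ψ.compAddMonoidHom (MonoidHom.toAdditive ((R.normalizerMonoidHom x⁻¹ : MulAut R) : R →* R))

theorem tw_apply (x : normalizer (R : Set X)) (ψ : AddChar (Additive R) ℂ) (r : R) :
    tw x ψ (Additive.ofMul r) = ψ (Additive.ofMul (R.normalizerMonoidHom x⁻¹ r)) := rfl

theorem norm_coe (x : normalizer (R : Set X)) (r : R) :
    ((R.normalizerMonoidHom x⁻¹ r : R) : X) = (x : X)⁻¹ * r * x := by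
  show ((x⁻¹ : normalizer (R : Set X)) : X) * r * ((x⁻¹ : normalizer (R : Set X)) : X)⁻¹ = _
  simp

theorem map_wt (x : normalizer (R : Set X)) {ψ : AddChar (Additive R) ℂ} {v : M}
    (hv : v ∈ wt ρ R ψ) : ρ (x : X) v ∈ wt ρ R (tw x ψ) := by
  rw [mem_wt]
  intro r
  have h1 := mem_wt.1 hv (R.normalizerMonoidHom x⁻¹ r)
  rw [tw_apply]
  have h2 : ρ (r : X) (ρ (x : X) v) = ρ (x : X) (ρ ((R.normalizerMonoidHom x⁻¹ r : R) : X) v) := by
    rw [← Module.End.mul_apply, ← Module.End.mul_apply, ← map_mul, ← map_mul, norm_coe]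
    congr 2
    group
  rw [h2, h1, map_smul]

theorem tw_mul (x y : normalizer (R : Set X)) (ψ : AddChar (Additive R) ℂ) :
    tw (x * y) ψ = tw x (tw y ψ) := by
  apply AddChar.ext
  intro a
  show ψ (Additive.ofMul (R.normalizerMonoidHom (x * y)⁻¹ a.toMul)) =
    ψ (Additive.ofMul (R.normalizerMonoidHom y⁻¹ (R.normalizerMonoidHom x⁻¹ a.toMul)))
  rw [mul_inv_rev, map_mul]
  rfl

theorem tw_one (ψ : AddChar (Additive R) ℂ) : tw 1 ψ = ψ := by
  apply AddChar.ext
  intro a
  show ψ (Additive.ofMul (R.normalizerMonoidHom (1)⁻¹ a.toMul)) = _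
  rw [inv_one, map_one]
  rfl

/-- elements of `R` do not move the weights -/
theorem tw_of_mem (x : normalizer (R : Set X)) (hx : (x : X) ∈ R) (ψ : AddChar (Additive R) ℂ) :
    tw x ψ = ψ := by
  apply AddChar.ext
  intro a
  show ψ (Additive.ofMul (R.normalizerMonoidHom x⁻¹ a.toMul)) = _
  have h1 : R.normalizerMonoidHom x⁻¹ a.toMul = a.toMul := by
    apply Subtype.ext
    rw [norm_coe]
    have h2 : (⟨x, hx⟩ : R) * a.toMul = a.toMul * (⟨x, hx⟩ : R) := mul_comm _ _
    have h3 : (x : X) * (a.toMul : X) = (a.toMul : X) * x := congrArg Subtype.val h2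
    rw [mul_assoc, ← h3]
    group
  rw [h1]
  rfl

theorem wt_ne_bot (x : normalizer (R : Set X)) {ψ : AddChar (Additive R) ℂ} (h : wt ρ R ψ ≠ ⊥) :
    wt ρ R (tw x ψ) ≠ ⊥ := by
  obtain ⟨v, hv, hv0⟩ := Submodule.exists_mem_ne_zero_of_ne_bot h
  intro h0
  have h1 := map_wt x hv
  rw [h0, Submodule.mem_bot] at h1
  apply hv0
  have h2 : ρ (x : X)⁻¹ (ρ (x : X) v) = v := by
    rw [← Module.End.mul_apply, ← map_mul, inv_mul_cancel, map_one]
    rfl
  rw [← h2, h1, map_zero]

variable (ρ R)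

/-- the weights -/
def Wts : Type _ := {ψ : AddChar (Additive R) ℂ // wt ρ R ψ ≠ ⊥}

/-- the normalizer acts on the weights -/
def actWts : normalizer (R : Set X) →* Equiv.Perm (Wts ρ R) where
  toFun x :=
    { toFun := fun ψ => ⟨tw x ψ.1, wt_ne_bot x ψ.2⟩
      invFun := fun ψ => ⟨tw x⁻¹ ψ.1, wt_ne_bot x⁻¹ ψ.2⟩
      left_inv := fun ψ => Subtype.ext (by
        show tw x⁻¹ (tw x ψ.1) = ψ.1
        rw [← tw_mul, inv_mul_cancel, tw_one])
      right_inv := fun ψ => Subtype.ext (by
        show tw x (tw x⁻¹ ψ.1) = ψ.1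
        rw [← tw_mul, mul_inv_cancel, tw_one]) }
  map_one' := by
    ext ψ : 1
    exact Subtype.ext (tw_one _)
  map_mul' x y := by
    ext ψ : 1
    exact Subtype.ext (tw_mul _ _ _)

instance finite_Wts : Finite (Wts ρ R) := Subtype.finite

theorem card_Wts_le : Nat.card (Wts ρ R) ≤ finrank ℂ M := by
  classical
  have := Fintype.ofFinite R
  have : Fintype (Additive R) := inferInstanceAs (Fintype R)
  have h1 : finrank ℂ M = ∑ ψ : AddChar (Additive R) ℂ, finrank ℂ (wt ρ R ψ) :=
    (act ρ R).sum_finrank_wt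
  have h2 : Nat.card (Wts ρ R) = Fintype.card {ψ : AddChar (Additive R) ℂ // wt ρ R ψ ≠ ⊥} := by
    show Nat.card {ψ : AddChar (Additive R) ℂ // wt ρ R ψ ≠ ⊥} = _
    exact Nat.card_eq_fintype_card
  rw [h1, h2, Fintype.card_subtype, Finset.card_eq_sum_ones, Finset.sum_filter]
  refine Finset.sum_le_sum fun ψ _ => ?_
  split_ifs with h
  · rw [Nat.one_le_iff_ne_zero]
    intro h0
    exact h (Submodule.finrank_eq_zero.1 h0)
  · exact Nat.zero_le _

variable {ρ R}

/-- If `ρ` is irreducible on `N`, then `N` is transitive on the weights. -/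
theorem exists_tw (N : Subgroup X) (hNR : N ≤ normalizer (R : Set X))
    (hirr : Representation.IsIrreducible (ρ.comp N.subtype : Representation ℂ N M))
    {ψ φ : AddChar (Additive R) ℂ} (hψ : wt ρ R ψ ≠ ⊥) (hφ : wt ρ R φ ≠ ⊥) :
    ∃ n : normalizer (R : Set X), (n : X) ∈ N ∧ φ = tw n ψ := by
  classical
  have := Fintype.ofFinite R
  have : Fintype (Additive R) := inferInstanceAs (Fintype R)
  by_contra hc
  push Not at hc
  let f : N → Submodule ℂ M := fun n => wt ρ R (tw ⟨(n : X), hNR n.2⟩ ψ)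
  let S : Submodule ℂ M := ⨆ n : N, f n
  have hS : ∀ n : N, ∀ v ∈ S, ρ (n : X) v ∈ S := by
    intro n v hv
    have h1 : S ≤ S.comap (ρ (n : X)) := by
      refine iSup_le fun m => ?_
      intro w hw
      have h2 : ρ (n : X) w ∈ f (n * m) := by
        have h3 := map_wt (ρ := ρ) (R := R) ⟨(n : X), hNR n.2⟩ hw
        rw [← tw_mul] at h3
        exact h3
      exact Submodule.mem_comap.2 (Submodule.mem_iSup_of_mem (n * m) h2)
    exact h1 hv
  let S' : Subrepresentation (ρ.comp N.subtype : Representation ℂ N M) := ⟨S, fun n v hv => hS n v hv⟩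
  have hSψ : wt ρ R ψ ≤ S := by
    intro v hv
    have h2 : v ∈ f 1 := by
      have h3 : tw (⟨((1 : N) : X), hNR (1 : N).2⟩ : normalizer (R : Set X)) ψ = ψ := tw_one ψ
      show v ∈ wt ρ R (tw _ ψ)
      rw [h3]
      exact hv
    exact Submodule.mem_iSup_of_mem 1 h2
  have hStop : S = ⊤ := by
    rcases hirr.eq_bot_or_eq_top S' with h | h
    · exfalso
      apply hψ
      rw [eq_bot_iff]
      have h3 : S = ⊥ := congrArg Subrepresentation.toSubmodule h
      rw [← h3]
      exact hSψ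
    · exact congrArg Subrepresentation.toSubmodule h
  have hind := ((DirectSum.isInternal_submodule_iff_iSupIndep_and_iSup_eq_top _).1
    (act ρ R).isInternal).1
  have h4 : Disjoint (wt ρ R φ) S := by
    refine (hind φ).mono_right ?_
    refine iSup_le fun n => ?_
    exact le_iSup₂_of_le (f := fun j (_ : j ≠ φ) => (act ρ R).wt j) (tw ⟨(n : X), hNR n.2⟩ ψ)
      (fun h0 => hc ⟨(n : X), hNR n.2⟩ n.2 h0.symm) le_rfl
  rw [hStop, disjoint_top] at h4
  exact hφ h4

theorem finrank_wt_le (N : Subgroup X) (hNR : N ≤ normalizer (R : Set X))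
    (hirr : Representation.IsIrreducible (ρ.comp N.subtype : Representation ℂ N M))
    {ψ φ : AddChar (Additive R) ℂ} (hψ : wt ρ R ψ ≠ ⊥) (hφ : wt ρ R φ ≠ ⊥) :
    finrank ℂ (wt ρ R ψ) ≤ finrank ℂ (wt ρ R φ) := by
  obtain ⟨n, hn, rfl⟩ := exists_tw N hNR hirr hψ hφ
  refine H120.finrank_le_of_map (ρ (n : X)) ?_ (fun v hv => map_wt n hv)
  intro v w hvw
  have h1 : ∀ v, ρ (n : X)⁻¹ (ρ (n : X) v) = v := by
    intro v
    rw [← Module.End.mul_apply, ← map_mul, inv_mul_cancel, map_one]
    rfl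
  rw [← h1 v, hvw, h1 w]

/-- The weight spaces have dimension dividing the dimension. -/
theorem finrank_wt_dvd (N : Subgroup X) (hNR : N ≤ normalizer (R : Set X))
    (hirr : Representation.IsIrreducible (ρ.comp N.subtype : Representation ℂ N M))
    {ψ : AddChar (Additive R) ℂ} (hψ : wt ρ R ψ ≠ ⊥) :
    finrank ℂ (wt ρ R ψ) ∣ finrank ℂ M := by
  classical
  have := Fintype.ofFinite R
  have : Fintype (Additive R) := inferInstanceAs (Fintype R)
  have h1 : finrank ℂ M = ∑ φ : AddChar (Additive R) ℂ, finrank ℂ (wt ρ R φ) :=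
    (act ρ R).sum_finrank_wt
  rw [h1]
  refine Finset.dvd_sum fun φ _ => ?_
  by_cases hφ : wt ρ R φ = ⊥
  · rw [hφ, finrank_bot]
    exact dvd_zero _
  · rw [le_antisymm (finrank_wt_le N hNR hirr hψ hφ) (finrank_wt_le N hNR hirr hφ hψ)]

/-- Factoring a homomorphism through a surjection. -/
theorem exists_lift {A B D : Type*} [Group A] [Group B] [Group D] (f : A →* B)
    (hf : Function.Surjective f) (g : A →* D) (h : ∀ a, f a = 1 → g a = 1) :
    ∃ g' : B →* D, ∀ a, g' (f a) = g a := by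
  refine ⟨f.liftOfRightInverse (Function.surjInv hf) (Function.rightInverse_surjInv hf)
    ⟨g, fun a ha => h a ha⟩, fun a => ?_⟩
  exact f.liftOfRightInverse_comp_apply _ _ ⟨g, fun a ha => h a ha⟩ a

/-- The key lemma. -/
theorem exists_small_rep {T : Type*} [Group T] (N C : Subgroup X)
    (hNR : N ≤ normalizer (R : Set X)) (hCR : C ≤ normalizer (R : Set X))
    (hirr : Representation.IsIrreducible (ρ.comp N.subtype : Representation ℂ N M))
    (hcop : (finrank ℂ M).Coprime (Nat.card R))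
    (π : C →* T) (hπ : Function.Surjective π) (hker : ∀ c : C, π c = 1 ↔ (c : X) ∈ R)
    (hT : commutator T = ⊤) {y : X} (hy : y ∈ ⁅C, C⁆) (hyM : ρ y ≠ 1) :
    ∃ (k : ℕ) (σ : T →* Matrix.GeneralLinearGroup (Fin k) ℂ), k ≤ finrank ℂ M ∧ σ ≠ 1 := by
  classical
  have hfin := Fintype.ofFinite R
  have : Fintype (Additive R) := inferInstanceAs (Fintype R)
  by_cases h : ∀ c : C, actWts ρ R ⟨(c : X), hCR c.2⟩ = 1
  · -- all weights are fixed
    have hfix : ∀ (c : C) (ψ : AddChar (Additive R) ℂ), wt ρ R ψ ≠ ⊥ →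
        tw ⟨(c : X), hCR c.2⟩ ψ = ψ := by
      intro c ψ hψ
      have h1 := DFunLike.congr_fun (h c) ⟨ψ, hψ⟩
      exact congrArg Subtype.val h1
    have hstab : ∀ (c : C) (ψ : AddChar (Additive R) ℂ), ∀ v ∈ wt ρ R ψ, ρ (c : X) v ∈ wt ρ R ψ := by
      intro c ψ v hv
      by_cases hψ : wt ρ R ψ = ⊥
      · rw [hψ, Submodule.mem_bot] at hv
        rw [hv, map_zero]
        exact Submodule.zero_mem _
      · have h1 := map_wt (ρ := ρ) (R := R) ⟨(c : X), hCR c.2⟩ hv
        rwa [hfix c ψ hψ] at h1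
    -- the determinant
    have htriv : ∀ c : C, c ∈ commutator C → ∀ hc : (c : X) ∈ R, ρ (c : X) = 1 := by
      intro c hc hcR
      have h2 : ∀ ψ : AddChar (Additive R) ℂ, ∀ v ∈ wt ρ R ψ, ρ (c : X) v = v := by
        intro ψ v hv
        by_cases hψ : wt ρ R ψ = ⊥
        · rw [hψ, Submodule.mem_bot] at hv
          rw [hv, map_zero]
        · let σ : C →* (wt ρ R ψ →ₗ[ℂ] wt ρ R ψ) :=
            { toFun := fun c => (ρ (c : X)).restrict (hstab c ψ)
              map_one' := by
                ext v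
                simp
              map_mul' := fun a b => by
                ext v
                simp }
          let δ : C →* ℂˣ := MonoidHom.toHomUnits ((LinearMap.det : _ →* ℂ).comp σ)
          have h3 : δ c = 1 := Abelianization.commutator_subset_ker δ hc
          have h4 : LinearMap.det (σ c) = 1 := congrArg Units.val h3
          have h5 : σ c = ψ (Additive.ofMul ⟨c, hcR⟩) • (1 : wt ρ R ψ →ₗ[ℂ] wt ρ R ψ) := by
            apply LinearMap.ext
            intro w
            apply Subtype.ext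
            exact mem_wt.1 w.2 ⟨c, hcR⟩
          rw [h5, LinearMap.det_smul, map_one, mul_one] at h4
          have h6 : ψ (Additive.ofMul ⟨c, hcR⟩) ^ (Nat.card R) = 1 := by
            rw [← AddChar.map_nsmul_eq_pow, ← ofMul_pow, pow_card_eq_one', ofMul_one,
              AddChar.map_zero_eq_one]
          have h7 : orderOf (ψ (Additive.ofMul ⟨c, hcR⟩)) = 1 := by
            apply Nat.eq_one_of_dvd_coprimes hcop
            · exact (orderOf_dvd_of_pow_eq_one h4).trans (finrank_wt_dvd N hNR hirr hψ)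
            · exact orderOf_dvd_of_pow_eq_one h6
          rw [orderOf_eq_one_iff] at h7
          have h8 := mem_wt.1 hv ⟨c, hcR⟩
          rw [h7, one_smul] at h8
          exact h8
      apply LinearMap.ext
      intro v
      show ρ (c : X) v = v
      conv_rhs => rw [← (act ρ R).sum_proj v]
      conv_lhs => rw [← (act ρ R).sum_proj v]
      rw [map_sum]
      exact Finset.sum_congr rfl fun ψ _ => h2 ψ _ ((act ρ R).proj_mem ψ v)
    -- descend
    let π' : commutator C →* T := π.comp (commutator C).subtype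
    have hπ' : Function.Surjective π' := by
      rw [← MonoidHom.range_eq_top, MonoidHom.range_comp, Subgroup.range_subtype, ← hT,
        commutator_def, map_commutator, commutator_def, ← MonoidHom.range_eq_map,
        MonoidHom.range_eq_top.2 hπ]
    let g : commutator C →* (M →ₗ[ℂ] M)ˣ :=
      MonoidHom.toHomUnits ((ρ : X →* _).comp (C.subtype.comp (commutator C).subtype))
    obtain ⟨g', hg'⟩ := exists_lift π' hπ' g (by
      intro a ha
      apply Units.ext
      exact htriv a a.2 ((hker a).1 ha))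
    rw [← map_subtype_commutator] at hy
    obtain ⟨y', hy', rfl⟩ := hy
    let σ : T →* (M →ₗ[ℂ] M) := (Units.coeHom _).comp g'
    have h9 : σ (π y') ≠ 1 := by
      intro h0
      apply hyM
      have h10 : g' (π' ⟨y', hy'⟩) = g ⟨y', hy'⟩ := hg' _
      have h11 : ((g' (π y') : (M →ₗ[ℂ] M)ˣ) : M →ₗ[ℂ] M) = ρ (y' : X) := congrArg Units.val h10
      exact h11.symm.trans h0
    obtain ⟨τ, hτ⟩ := exists_GL σ h9 rfl
    exact ⟨_, τ, le_rfl, fun h0 => hτ (by rw [h0]; rfl)⟩
  · push Not at h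
    obtain ⟨c, hc⟩ := h
    let g : C →* Equiv.Perm (Wts ρ R) := (actWts ρ R).comp (Subgroup.inclusion hCR)
    obtain ⟨g', hg'⟩ := exists_lift π hπ g (by
      intro a ha
      ext ψ : 1
      exact Subtype.ext (tw_of_mem _ ((hker a).1 ha) _))
    have h1 : g' (π c) ≠ 1 := by
      rw [hg']
      exact hc
    obtain ⟨τ, hτ⟩ := exists_GL_of_perm g' h1
    exact ⟨_, τ, card_Wts_le ρ R, fun h0 => hτ (by rw [h0]; rfl)⟩

end Cfsg.Agent.H715.Weights
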