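import Mathlib
import Cfsg.Prelude.Def_KGroupFacts
import Cfsg.Agent.Characters.Core
import Cfsg.Agent.Characters.Brauer
import Cfsg.Agent.H715.Weights
import Cfsg.Agent.H715.LiftDeg

/-!
# From characters of `Y` to representations of `A` (helper715)
-/

set_option autoImplicit false
set_option linter.unusedSectionVars false

namespace Cfsg.Agent.H715.LiftAut

open Subgroup Module Cfsg.Agent.Characters

universe u

/-- An irreducible character of degree `d₀` of `Y` gives a representation of `A` of degree at most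
`|Out T| d₀` which is nontrivial on `Inn Y`. -/
theorem exists_rep_of_char {T : Type u} [Group T] [Finite T]
    (hc : Function.Injective (MulAut.conj : T →* MulAut T)) (Y : Subgroup T)
    (A : Subgroup (MulAut T)) (hA1 : ∀ y ∈ Y, MulAut.conj y ∈ A)
    (hA2 : ∀ t : T, MulAut.conj t ∈ A → t ∈ Y) {χ : Y → ℂ} (hχ : Cfsg.IsIrrCharacter Y χ)
    (h1 : χ ≠ 1) {d₀ : ℕ} (hd : χ 1 = d₀) :
    ∃ (d : ℕ) (ρ : A →* Matrix.GeneralLinearGroup (Fin d) ℂ), d ≤ Nat.card (Cfsg.Out T) * d₀ ∧
      ∃ (y : T) (hy : y ∈ Y), ρ ⟨MulAut.conj y, hA1 y hy⟩ ≠ 1 := by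
  classical
  have : Finite (MulAut T) := inferInstance
  have := Fintype.ofFinite A
  let I : Subgroup A := ((MulAut.conj : T →* MulAut T).range).subgroupOf A
  have := Fintype.ofFinite I
  let f : Y →* I :=
    { toFun := fun y => ⟨⟨MulAut.conj (y : T), hA1 y y.2⟩, ⟨(y : T), rfl⟩⟩
      map_one' := by
        apply Subtype.ext
        apply Subtype.ext
        exact map_one _
      map_mul' := fun a b => by
        apply Subtype.ext
        apply Subtype.ext
        exact map_mul _ _ _ }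
  have hf : Function.Bijective f := by
    constructor
    · intro a b hab
      apply Subtype.ext
      apply hc
      exact congrArg Subtype.val (congrArg Subtype.val hab)
    · rintro ⟨⟨a, ha⟩, ⟨t, ht⟩⟩
      have ht' : MulAut.conj t = a := ht
      refine ⟨⟨t, hA2 t (by rw [ht']; exact ha)⟩, ?_⟩
      apply Subtype.ext
      apply Subtype.ext
      exact ht'
  let e : Y ≃* I := MulEquiv.ofBijective f hf
  let θ : I → ℂ := χ ∘ (e.symm : I →* Y)
  have hθ : Cfsg.IsIrrCharacter I θ := Core.isIrr_comp (e.symm : I →* Y) e.symm.surjective hχ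
  have hθ1 : θ ≠ 1 := by
    intro h0
    apply h1
    funext y
    have h2 := congrFun h0 (e y)
    have h3 : θ (e y) = χ y := by
      show χ (e.symm (e y)) = χ y
      rw [e.symm_apply_apply]
    rw [← h3, h2]
    rfl
  obtain ⟨n, ρ, hρ⟩ := Brauer.isCharacter_indFun I (Core.isIrr_isCharacter hθ)
  have hval : Cfsg.indFun I θ 1 = (I.index : ℂ) * d₀ := by
    rw [Core.indFun_apply]
    have h2 : ∀ x : A, Cfsg.extendByZero I θ (x⁻¹ * 1 * x) = d₀ := by
      intro x
      rw [mul_one, inv_mul_cancel]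
      refine (Core.extendByZero_of_mem I _ I.one_mem).trans ?_
      have h3 : (⟨1, I.one_mem⟩ : I) = 1 := rfl
      rw [h3]
      show χ (e.symm 1) = d₀
      rw [map_one, hd]
    simp only [h2, Finset.sum_const, nsmul_eq_mul]
    rw [Finset.card_univ, ← Nat.card_eq_fintype_card, ← I.card_mul_index]
    push_cast
    have h4 : (Nat.card I : ℂ) ≠ 0 := Core.card_ne_zero_complex
    field_simp
  have hn : n = I.index * d₀ := by
    have h2 := congrFun hρ 1
    rw [Representation.char_one, Module.finrank_fin_fun, hval] at h2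
    exact_mod_cast h2
  have hidx : I.index ≤ Nat.card (Cfsg.Out T) := by
    have h2 : I.index = (Cfsg.Inn T).relIndex A := rfl
    rw [h2]
    refine Nat.le_of_dvd ?_ ?_
    · exact Nat.card_pos
    · exact relIndex_dvd_index_of_normal (Cfsg.Inn T) A
  -- nontriviality
  have hne : ∃ x : I, ρ (x : A) ≠ 1 := by
    by_contra hcon
    push Not at hcon
    let ψ : A → ℂ := Cfsg.indFun I θ
    have hψc : Cfsg.IsClassFunction A ψ := Brauer.indFun_isClassFunction I θ
    have h2 : Cfsg.classInner ψ ψ = 0 := by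
      have h3 := Brauer.classInner_indFun I inferInstance θ ψ hψc
      refine h3.trans ?_
      have h4 : (fun h : I => ψ h) = (n : ℂ) • (1 : I → ℂ) := by
        funext x
        show Cfsg.indFun I θ (x : A) = _
        rw [← hρ, Representation.character, hcon x]
        simp
      rw [h4, Core.classInner_smul_right, Core.classInner_irr_ne hθ Core.isIrr_one hθ1, mul_zero]
    have h5 := Core.classInner_self_eq_zero h2
    have h6 := congrFun h5 1
    have h7 : (I.index : ℂ) * d₀ = 0 := by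
      rw [← hval]
      exact h6
    rcases mul_eq_zero.1 h7 with h8 | h8
    · have h9 : I.index = 0 := by exact_mod_cast h8
      exact Subgroup.FiniteIndex.index_ne_zero h9
    · apply Core.isIrr_apply_one_ne_zero hχ
      rw [hd, h8]
  obtain ⟨x, hx⟩ := hne
  obtain ⟨τ, hτ⟩ := Weights.exists_GL ρ hx (Module.finrank_fin_fun ℂ)
  obtain ⟨⟨a, ha⟩, ⟨t, ht⟩⟩ := x
  have ht' : MulAut.conj t = a := ht
  refine ⟨n, τ, ?_, t, hA2 t (by rw [ht']; exact ha), ?_⟩
  · rw [hn]
    exact Nat.mul_le_mul_right _ hidx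
  · have h10 : (⟨MulAut.conj t, hA1 t (hA2 t (by rw [ht']; exact ha))⟩ : A) = ⟨a, ha⟩ := Subtype.ext ht'
    rw [h10]
    exact hτ

/-- Characteristic `p` version: a nontrivial representation of `Y` in characteristic `p ∤ |Y|`. -/
theorem exists_rep_of_modular {T : Type u} [Group T] [Finite T]
    (hc : Function.Injective (MulAut.conj : T →* MulAut T)) (Y : Subgroup T)
    (A : Subgroup (MulAut T)) (hA1 : ∀ y ∈ Y, MulAut.conj y ∈ A)
    (hA2 : ∀ t : T, MulAut.conj t ∈ A → t ∈ Y) {F : Type*} [Field F] [Finite F] {p : ℕ}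
    [hp : Fact p.Prime] [CharP F p] (hY : ¬ p ∣ Nat.card Y) {V : Type*} [AddCommGroup V] [Module F V]
    [FiniteDimensional F V] (ρ : Y →* Module.End F V) (hρ : ∃ y, ρ y ≠ 1) :
    ∃ (d : ℕ) (ρ : A →* Matrix.GeneralLinearGroup (Fin d) ℂ),
      d ≤ Nat.card (Cfsg.Out T) * finrank F V ∧
      ∃ (y : T) (hy : y ∈ Y), ρ ⟨MulAut.conj y, hA1 y hy⟩ ≠ 1 := by
  obtain ⟨χ, hχ, h1, d₀, hd, hle⟩ := LiftDeg.exists_irr_of_rep hY ρ hρ
  obtain ⟨d, σ, hdd, h2⟩ := exists_rep_of_char hc Y A hA1 hA2 hχ h1 hd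
  exact ⟨d, σ, hdd.trans (Nat.mul_le_mul_left _ hle), h2⟩

end Cfsg.Agent.H715.LiftAut
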