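import Mathlib
import Cfsg.Agent.H715.Basic
import Cfsg.Agent.Characters.Brauer

/-!
# Lemmas on complex representations (helper715)
-/

set_option autoImplicit false
set_option linter.unusedSectionVars false

namespace Cfsg.Agent.H715

open Subgroup Cfsg.Agent.Characters Module

/-- An irreducible constituent on which a given element acts nontrivially. -/
theorem exists_irr {A : Type*} [Group A] [Finite A] {V : Type*} [AddCommGroup V] [Module ℂ V]
    [FiniteDimensional ℂ V] (ρ : Representation ℂ A V) (y : A) (hy : ρ y ≠ 1) :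
    ∃ n ≤ finrank ℂ V, ∃ τ : Representation ℂ A (Fin n → ℂ), τ.IsIrreducible ∧ τ y ≠ 1 := by
  have key : ∀ d : ℕ, finrank ℂ V ≤ d → ρ y ≠ 1 →
      ∃ n ≤ d, ∃ τ : Representation ℂ A (Fin n → ℂ), τ.IsIrreducible ∧ τ y ≠ 1 := by
    refine Core.rep_induction (P := fun V _ _ ρ => ∀ d : ℕ, finrank ℂ V ≤ d → ρ y ≠ 1 →
      ∃ n ≤ d, ∃ τ : Representation ℂ A (Fin n → ℂ), τ.IsIrreducible ∧ τ y ≠ 1) ?_ ?_ V ρ
    · intro V _ _ ρ hV d _ h
      exact absurd (LinearMap.ext fun x => Subsingleton.elim _ _) h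
    · intro V _ _ _ ρ U U' hc hU ih d hd h
      have hle : finrank ℂ U.toSubmodule ≤ finrank ℂ V := Submodule.finrank_le _
      have hle' : finrank ℂ U'.toSubmodule ≤ finrank ℂ V := Submodule.finrank_le _
      by_cases h1 : U.toRepresentation y = 1
      · by_cases h2 : U'.toRepresentation y = 1
        · exfalso
          apply h
          apply LinearMap.ext
          intro v
          have h3 : v ∈ U.toSubmodule ⊔ U'.toSubmodule := by
            rw [hc.sup_eq_top]; exact Submodule.mem_top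
          obtain ⟨a, ha, b, hb, rfl⟩ := Submodule.mem_sup.1 h3
          have e1 : ρ y a = a := congrArg Subtype.val (LinearMap.congr_fun h1 ⟨a, ha⟩)
          have e2 : ρ y b = b := congrArg Subtype.val (LinearMap.congr_fun h2 ⟨b, hb⟩)
          show ρ y (a + b) = a + b
          rw [map_add, e1, e2]
        · exact ih d (hle'.trans hd) h2
      · refine ⟨finrank ℂ U.toSubmodule, hle.trans hd,
          Core.transportRep (finBasis ℂ U.toSubmodule).equivFun U.toRepresentation,
          Core.isIrreducible_transportRep _ hU, fun h0 => h1 ?_⟩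
        rw [Core.transportRep_apply] at h0
        have h4 : (LinearEquiv.conj (finBasis ℂ U.toSubmodule).equivFun) (U.toRepresentation y) =
            (LinearEquiv.conj (finBasis ℂ U.toSubmodule).equivFun) LinearMap.id :=
          h0.trans (LinearEquiv.conj_id _).symm
        exact (LinearEquiv.conj (finBasis ℂ U.toSubmodule).equivFun).injective h4
  exact key _ le_rfl hy

/-- An irreducible representation of `H` over a given one of `N`. -/
theorem exists_over {G : Type*} [Group G] [Finite G] {H N : Subgroup G} (hNH : N ≤ H)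
    {W : Type*} [AddCommGroup W] [Module ℂ W] [FiniteDimensional ℂ W] (ω : Representation ℂ N W)
    (hω : ω.IsIrreducible) :
    ∃ (n : ℕ) (τ : Representation ℂ H (Fin n → ℂ)) (j : W →ₗ[ℂ] (Fin n → ℂ)), τ.IsIrreducible ∧
      j ≠ 0 ∧ ∀ (x : N) (w : W), j (ω x w) = τ ⟨x, hNH x.2⟩ (j w) := by
  classical
  have := Fintype.ofFinite G
  have := Fintype.ofFinite H
  have := Fintype.ofFinite N
  let N' : Subgroup H := N.subgroupOf H
  have := Fintype.ofFinite N'
  let e : N' ≃* N := subgroupOfEquivOfLe hNH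
  let ω' : Representation ℂ N' W := ω.comp (e : N' →* N)
  have hω' : ω'.IsIrreducible := irr_comp_surj _ e.surjective ω hω
  have hθ : Cfsg.IsIrrCharacter N' ω'.character := Core.isIrrCharacter_of_rep ω' hω'
  have hne : Cfsg.indFun N' ω'.character ≠ 0 := by
    intro h0
    have h1 := congrFun h0 1
    rw [Core.indFun_apply] at h1
    have h2 : ∀ x : H, Cfsg.extendByZero N' ω'.character (x⁻¹ * 1 * x) = ω'.character 1 := by
      intro x
      rw [mul_one, inv_mul_cancel]
      exact Core.extendByZero_of_mem N' _ N'.one_mem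
    simp only [h2, Finset.sum_const, Pi.zero_apply, nsmul_eq_mul] at h1
    rcases mul_eq_zero.1 h1 with h3 | h3
    · rw [inv_eq_zero] at h3
      exact Core.card_ne_zero_complex h3
    · rcases mul_eq_zero.1 h3 with h4 | h4
      · rw [Finset.card_univ, ← Nat.card_eq_fintype_card] at h4
        exact Core.card_ne_zero_complex h4
      · exact Core.isIrr_apply_one_ne_zero hθ h4
  obtain ⟨χ, hχ, hin⟩ : ∃ χ : H → ℂ, Cfsg.IsIrrCharacter H χ ∧
      Cfsg.classInner (Cfsg.indFun N' ω'.character) χ ≠ 0 := by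
    by_contra hcon
    push Not at hcon
    exact hne (Core.classFunction_eq_zero (Brauer.indFun_isClassFunction N' _) hcon)
  obtain ⟨n, τ, hτ, rfl⟩ := hχ
  rw [Brauer.classInner_indFun N' inferInstance _ _ (Core.isIrr_isClassFunction ⟨n, τ, hτ, rfl⟩)] at hin
  let τ' : Representation ℂ N' (Fin n → ℂ) := τ.comp N'.subtype
  have h5 : (fun h : N' => τ.character h) = τ'.character := rfl
  rw [h5, ← Core.classInner_conj_symm, Core.classInner_character] at hin
  have h6 : finrank ℂ (Representation.IntertwiningMap ω' τ') ≠ 0 := by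
    intro h0
    apply hin
    rw [h0]
    simp
  have : Nontrivial (Representation.IntertwiningMap ω' τ') :=
    Module.nontrivial_of_finrank_pos (R := ℂ) (Nat.pos_of_ne_zero h6)
  obtain ⟨j, hj⟩ := exists_ne (0 : Representation.IntertwiningMap ω' τ')
  refine ⟨n, τ, j.toLinearMap, hτ, ?_, ?_⟩
  · intro h0
    apply hj
    ext w
    exact congrFun (congrFun (congrArg DFunLike.coe h0) w) _
  · intro x w
    have h7 := Representation.IntertwiningMap.isIntertwining _ _ j (e.symm x) w
    have h8 : ω' (e.symm x) = ω x := by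
      show ω (e (e.symm x)) = ω x
      rw [e.apply_symm_apply]
    rw [h8] at h7
    exact h7

/-- The vectors fixed by `B`. -/
theorem mem_range_of_fixed {G : Type*} [Group G] [Finite G] {V W : Type*} [AddCommGroup V]
    [Module ℂ V] [AddCommGroup W] [Module ℂ W] (ρ : Representation ℂ G V) {H N B Y : Subgroup G}
    (hirr : Representation.IsIrreducible (ρ.comp H.subtype : Representation ℂ H V))
    (hBN : B ≤ N) (hYN : Y ≤ N) (hYn : ∀ n ∈ N, ∀ y ∈ Y, n * y * n⁻¹ ∈ Y)
    (ω : Representation ℂ N W) (hω : ω.IsIrreducible) (hB : ∀ b, ∀ hb : b ∈ B, ω ⟨b, hBN hb⟩ = 1)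
    (hY : ∃ y, ∃ hy : y ∈ Y, ω ⟨y, hYN hy⟩ ≠ 1)
    (hout : ∀ h ∈ H, h ∉ N → ∀ y ∈ Y, h * y * h⁻¹ ∈ B)
    (j : W →ₗ[ℂ] V) (hj : ∀ (n : N) (w : W), j (ω n w) = ρ (n : G) (j w)) (hj0 : j ≠ 0)
    {v : V} (hv : ∀ b ∈ B, ρ b v = v) : v ∈ LinearMap.range j := by
  classical
  have := Fintype.ofFinite B
  let c : ℂ := (Fintype.card B : ℂ)
  have hc : c ≠ 0 := by
    show (Fintype.card B : ℂ) ≠ 0
    exact_mod_cast Fintype.card_ne_zero
  let e : V →ₗ[ℂ] V := ∑ b : B, ρ (b : G)
  have he : ∀ v, e v = ∑ b : B, ρ (b : G) v := fun v => by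
    simp only [e, LinearMap.sum_apply]
  have he1 : ∀ v, (∀ b ∈ B, ρ b v = v) → e v = c • v := by
    intro v hv
    rw [he, Finset.sum_congr rfl (fun (b : B) _ => hv (b : G) b.2), Finset.sum_const, Finset.card_univ,
      ← Nat.cast_smul_eq_nsmul ℂ]
  have he2 : ∀ b ∈ B, ∀ v, e (ρ b v) = e v := by
    intro b hb v
    rw [he, he]
    refine Fintype.sum_equiv (Equiv.mulRight (⟨b, hb⟩ : B)) _ _ (fun x => ?_)
    rw [← Module.End.mul_apply, ← map_mul]
    rfl
  -- the augmentation submodule of `W`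
  have haug : ∀ D : Submodule ℂ W, (∀ y, ∀ hy : y ∈ Y, ∀ w, ω ⟨y, hYN hy⟩ w - w ∈ D) → D = ⊤ := by
    intro D hD
    let D0 : Submodule ℂ W := Submodule.span ℂ {x | ∃ y, ∃ hy : y ∈ Y, ∃ w, x = ω ⟨y, hYN hy⟩ w - w}
    have hD0 : ∀ n : N, ∀ w ∈ D0, ω n w ∈ D0 := by
      intro n w hw
      have h1 : D0 ≤ D0.comap (ω n) := by
        rw [Submodule.span_le]
        rintro _ ⟨y, hy, w, rfl⟩
        apply Submodule.subset_span
        refine ⟨n * y * (n : G)⁻¹, hYn n n.2 y hy, ω n w, ?_⟩
        rw [map_sub]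
        congr 1
        rw [← Module.End.mul_apply, ← Module.End.mul_apply, ← map_mul, ← map_mul]
        congr 2
        apply Subtype.ext
        show (n : G) * y = n * y * (n : G)⁻¹ * n
        group
      exact h1 hw
    have hle : D0 ≤ D := by
      rw [Submodule.span_le]
      rintro _ ⟨y, hy, w, rfl⟩
      exact hD y hy w
    let S : Subrepresentation ω := ⟨D0, fun n w hw => hD0 n w hw⟩
    rcases hω.eq_bot_or_eq_top S with h | h
    · exfalso
      obtain ⟨y, hy, hne⟩ := hY
      apply hne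
      apply LinearMap.ext
      intro w
      have h2 : D0 = ⊥ := congrArg Subrepresentation.toSubmodule h
      have h3 : ω ⟨y, hYN hy⟩ w - w ∈ D0 := Submodule.subset_span ⟨y, hy, w, rfl⟩
      rw [h2, Submodule.mem_bot, sub_eq_zero] at h3
      exact h3
    · have h2 : D0 = ⊤ := congrArg Subrepresentation.toSubmodule h
      rw [eq_top_iff, ← h2]
      exact hle
  -- vectors `h j(w)` with `h ∉ N` are killed by `e`
  have hkill : ∀ h ∈ H, h ∉ N → ∀ w, e (ρ h (j w)) = 0 := by
    intro h hh hhN w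
    have h1 : LinearMap.ker (e ∘ₗ ρ h ∘ₗ j) = ⊤ := by
      apply haug
      intro y hy w
      rw [LinearMap.mem_ker]
      show e (ρ h (j (ω ⟨y, hYN hy⟩ w - w))) = 0
      rw [map_sub, map_sub, map_sub, hj]
      have h2 : ρ h (ρ y (j w)) = ρ (h * y * h⁻¹) (ρ h (j w)) := by
        rw [← Module.End.mul_apply, ← Module.End.mul_apply, ← map_mul, ← map_mul]
        congr 2
        group
      have h3 : ρ h (ρ ((⟨y, hYN hy⟩ : N) : G) (j w)) = ρ (h * y * h⁻¹) (ρ h (j w)) := h2
      rw [h3, he2 _ (hout h hh hhN y hy), sub_self]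
    have h2 : w ∈ LinearMap.ker (e ∘ₗ ρ h ∘ₗ j) := by rw [h1]; exact Submodule.mem_top
    exact h2
  -- all of `V` is mapped into the range of `j`
  let P : Submodule ℂ V := Submodule.span ℂ {x | ∃ h ∈ H, ∃ w, x = ρ h (j w)}
  have hP : ∀ h : H, ∀ v ∈ P, ρ (h : G) v ∈ P := by
    intro h v hv
    have h1 : P ≤ P.comap (ρ (h : G)) := by
      rw [Submodule.span_le]
      rintro _ ⟨g, hg, w, rfl⟩
      apply Submodule.subset_span
      refine ⟨h * g, H.mul_mem h.2 hg, w, ?_⟩
      rw [map_mul]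
      rfl
    exact h1 hv
  have hPtop : P = ⊤ := by
    let S : Subrepresentation (ρ.comp H.subtype : Representation ℂ H V) := ⟨P, fun h v hv => hP h v hv⟩
    rcases hirr.eq_bot_or_eq_top S with h | h
    · exfalso
      apply hj0
      apply LinearMap.ext
      intro w
      have h2 : P = ⊥ := congrArg Subrepresentation.toSubmodule h
      have h3 : j w ∈ P := Submodule.subset_span ⟨1, H.one_mem, w, by rw [map_one]; rfl⟩
      rw [h2, Submodule.mem_bot] at h3
      rw [h3]
      rfl
    · exact congrArg Subrepresentation.toSubmodule h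
  have hPe : P ≤ (LinearMap.range j).comap e := by
    rw [Submodule.span_le]
    rintro _ ⟨h, hh, w, rfl⟩
    show e (ρ h (j w)) ∈ LinearMap.range j
    by_cases hN : h ∈ N
    · have h1 : ρ h (j w) = j (ω ⟨h, hN⟩ w) := (hj ⟨h, hN⟩ w).symm
      rw [h1, he1]
      · exact Submodule.smul_mem _ _ ⟨_, rfl⟩
      · intro b hb
        have h2 := hj ⟨b, hBN hb⟩ (ω ⟨h, hN⟩ w)
        rw [hB b hb] at h2
        exact h2.symm
    · rw [hkill h hh hN]
      exact Submodule.zero_mem _
  have h1 : e v ∈ LinearMap.range j := hPe (by rw [hPtop]; exact Submodule.mem_top)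
  rw [he1 v hv] at h1
  have h2 := Submodule.smul_mem _ c⁻¹ h1
  rwa [smul_smul, inv_mul_cancel₀ hc, one_smul] at h2

end Cfsg.Agent.H715
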