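import Mathlib
import Cfsg.Agent.H715.Struct
import Cfsg.Agent.H715.Rep
import Cfsg.Agent.H715.Weights
import Cfsg.Agent.H324.Hall.Interface

/-!
# The main case (helper715)
-/

set_option autoImplicit false
set_option linter.unusedSectionVars false

namespace Cfsg.Agent.H715

open Subgroup Cfsg.Agent.H386.Factor Module
open scoped commutatorElement

universe u

theorem commutator_simple {S : Type*} [Group S] [IsSimpleGroup S] (hS : ∃ a b : S, a * b ≠ b * a) :
    commutator S = ⊤ := by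
  rcases IsSimpleGroup.eq_bot_or_eq_top_of_normal (commutator S) inferInstance with h | h
  · exfalso
    obtain ⟨a, b, hab⟩ := hS
    apply hab
    have h1 : ⁅a, b⁆ ∈ commutator S := commutator_mem_commutator (mem_top a) (mem_top b)
    rw [h, mem_bot, commutatorElement_eq_one_iff_mul_comm] at h1
    exact h1
  · exact h

theorem commutator_pow {Y S : Type*} [Group Y] [Group S] [IsSimpleGroup S]
    (hS : ∃ a b : S, a * b ≠ b * a) {n : ℕ} (e : Y ≃* (Fin n → S)) : commutator Y = ⊤ := by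
  have h1 : commutator (Fin n → S) = ⊤ := by
    have h2 := commutator_pi_pi_of_finite (η := Fin n) (Gs := fun _ => S) (fun _ => ⊤) (fun _ => ⊤)
    rw [pi_top] at h2
    rw [commutator_def, h2]
    have h3 : (fun _ : Fin n => ⁅(⊤ : Subgroup S), (⊤ : Subgroup S)⁆) = fun _ => ⊤ := by
      funext i
      rw [← commutator_def, commutator_simple hS]
    rw [h3, pi_top]
  have h4 : (commutator (Fin n → S)).map (e.symm : (Fin n → S) →* Y) = commutator Y := by
    rw [commutator_def, map_commutator, commutator_def, ← MonoidHom.range_eq_map,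
      MonoidHom.range_eq_top.2 e.symm.surjective]
  rw [← h4, h1, ← MonoidHom.range_eq_map, MonoidHom.range_eq_top.2 e.symm.surjective]

variable {G : Type u} [Group G] [Finite G]

section defs

variable (H Z Q : Subgroup G) [hQn : Q.Normal] (T : Subgroup (G ⧸ Q))

/-- the part of `Z` over `T` -/
def YY : Subgroup G := Z ⊓ T.comap (QuotientGroup.mk' Q)

/-- the part of `Z` centralizing `T` -/
def BB : Subgroup G := Z ⊓ (centralizer (T : Set (G ⧸ Q))).comap (QuotientGroup.mk' Q)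

/-- the normalizer of `T` in `H` -/
def NN : Subgroup G := H ⊓ (normalizer (T : Set (G ⧸ Q))).comap (QuotientGroup.mk' Q)

variable {H Z Q T}

theorem mem_YY {x : G} : x ∈ YY Z Q T ↔ x ∈ Z ∧ QuotientGroup.mk' Q x ∈ T := Iff.rfl

theorem mem_BB {x : G} : x ∈ BB Z Q T ↔ x ∈ Z ∧ ∀ t ∈ T, t * QuotientGroup.mk' Q x =
    QuotientGroup.mk' Q x * t := by
  show x ∈ Z ∧ QuotientGroup.mk' Q x ∈ centralizer (T : Set (G ⧸ Q)) ↔ _
  rw [mem_centralizer_iff]
  rfl

theorem mem_NN {x : G} : x ∈ NN H Q T ↔ x ∈ H ∧ QuotientGroup.mk' Q x ∈ normalizer (T : Set (G ⧸ Q)) :=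
  Iff.rfl

theorem mem_NN_of {x : G} (hx : x ∈ H) (h : ∀ t ∈ T, QuotientGroup.mk' Q x * t *
    (QuotientGroup.mk' Q x)⁻¹ ∈ T) : x ∈ NN H Q T := by
  refine ⟨hx, ?_⟩
  have h2 : T.map (MulAut.conj (QuotientGroup.mk' Q x)).toMonoidHom ≤ T := by
    rintro _ ⟨y, hy, rfl⟩
    exact h y hy
  have h3 : T.map (MulAut.conj (QuotientGroup.mk' Q x)).toMonoidHom = T :=
    Subgroup.eq_of_le_of_card_ge h2
      (le_of_eq (Nat.card_congr (T.equivMapOfInjective (MulAut.conj (QuotientGroup.mk' Q x)).toMonoidHom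
        (MulAut.conj (QuotientGroup.mk' Q x)).injective).toEquiv))
  show QuotientGroup.mk' Q x ∈ normalizer (T : Set (G ⧸ Q))
  rw [mem_normalizer_iff]
  intro y
  refine ⟨fun hy => h y hy, fun hy => ?_⟩
  rw [← h3] at hy
  obtain ⟨w, hw, hwy⟩ := hy
  have h4 : w = y := (MulAut.conj (QuotientGroup.mk' Q x)).injective hwy
  rwa [← h4]

variable (H Q T)

/-- `N_H(T)` as a group of automorphisms of `T` -/
def phi : NN H Q T →* MulAut T :=
  T.normalizerMonoidHom.comp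
    (((QuotientGroup.mk' Q).comp (NN H Q T).subtype).codRestrict (normalizer (T : Set (G ⧸ Q)))
      (fun n => (mem_NN.1 n.2).2))

variable {H Q T}

theorem phi_apply (n : NN H Q T) (t : T) : ((phi H Q T n t : T) : G ⧸ Q) =
    QuotientGroup.mk' Q n * t * (QuotientGroup.mk' Q n)⁻¹ := rfl

end defs

namespace Sit

variable {H Z L Q : Subgroup G} [hQn : Q.Normal] {T : Subgroup (G ⧸ Q)}

theorem Z_le_NN (s : Sit H Z L Q T) : Z ≤ NN H Q T := by
  intro z hz
  exact mem_NN_of (s.hZH hz) (fun t ht => s.hT.norm _ (mem_map_of_mem _ (s.hZL hz)) t ht)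

theorem YY_le (s : Sit H Z L Q T) : YY Z Q T ≤ NN H Q T := inf_le_left.trans s.Z_le_NN

theorem BB_le (s : Sit H Z L Q T) : BB Z Q T ≤ NN H Q T := inf_le_left.trans s.Z_le_NN

theorem YY_norm (s : Sit H Z L Q T) : ∀ n ∈ NN H Q T, ∀ y ∈ YY Z Q T, n * y * n⁻¹ ∈ YY Z Q T := by
  intro n hn y hy
  rw [mem_YY] at hy ⊢
  refine ⟨s.hZn n hn.1 y hy.1, ?_⟩
  rw [map_mul, map_mul, map_inv]
  exact (mem_normalizer_iff.1 hn.2 _).1 hy.2

theorem BB_norm (s : Sit H Z L Q T) : ∀ n ∈ NN H Q T, ∀ y ∈ BB Z Q T, n * y * n⁻¹ ∈ BB Z Q T := by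
  intro n hn y hy
  rw [mem_BB] at hy ⊢
  refine ⟨s.hZn n hn.1 y hy.1, fun t ht => ?_⟩
  rw [map_mul, map_mul, map_inv]
  have h1 : (QuotientGroup.mk' Q n)⁻¹ * t * QuotientGroup.mk' Q n ∈ T := by
    have h2 := (mem_normalizer_iff.1 ((normalizer (T : Set (G ⧸ Q))).inv_mem hn.2) t).1 ht
    rwa [inv_inv] at h2
  have h3 := hy.2 _ h1
  generalize QuotientGroup.mk' Q n = a at *
  generalize QuotientGroup.mk' Q y = b at *
  have h4 : t * (a * b * a⁻¹) = a * (a⁻¹ * t * a * b) * a⁻¹ := by group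
  have h5 : a * b * a⁻¹ * t = a * (b * (a⁻¹ * t * a)) * a⁻¹ := by group
  rw [h4, h5, h3]

theorem out (s : Sit H Z L Q T) : ∀ h ∈ H, h ∉ NN H Q T → ∀ y ∈ YY Z Q T, h * y * h⁻¹ ∈ BB Z Q T := by
  intro h hh hN y hy
  rcases s.hT.conj (QuotientGroup.mk' Q h) with h1 | h1
  · exact absurd (mem_NN_of hh h1) hN
  · rw [mem_YY] at hy
    rw [mem_BB]
    refine ⟨s.hZn h hh y hy.1, fun t ht => ?_⟩
    rw [map_mul, map_mul, map_inv]
    exact h1 t ht _ hy.2

/-- a Hall subgroup is not contained properly in a subgroup of order dividing `|H|` -/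
theorem le_Yb (s : Sit H Z L Q T) (X : Subgroup T) (hX : (Z.map (QuotientGroup.mk' Q)).subgroupOf T ≤ X)
    (hc : Nat.card X ∣ Nat.card H) : X ≤ (Z.map (QuotientGroup.mk' Q)).subgroupOf T := by
  rw [← relIndex_eq_one]
  apply Nat.eq_one_of_dvd_coprimes s.hH
  · exact (relIndex_dvd_card _ _).trans hc
  · refine Dvd.dvd.trans ?_ s.relIndex_T
    show _ ∣ ((Z.map (QuotientGroup.mk' Q)).subgroupOf T).index
    rw [← relIndex_mul_index hX]
    exact Dvd.intro _ rfl

theorem simple (s : Sit H Z L Q T) : IsSimpleGroup T := by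
  have : Nontrivial T := by
    rw [Subgroup.nontrivial_iff_ne_bot]
    exact s.hT.ne_bot
  constructor
  intro K hK
  rcases s.hT.simple (K.map T.subtype) (map_subtype_le K) (by
    rintro t ht _ ⟨k, hk, rfl⟩
    exact ⟨⟨t, ht⟩ * k * ⟨t, ht⟩⁻¹, hK.conj_mem k hk ⟨t, ht⟩, rfl⟩) with h | h
  · left
    exact (Subgroup.map_eq_bot_iff_of_injective K T.subtype_injective).1 h
  · right
    rw [eq_top_iff]
    intro t _
    have h1 : (t : G ⧸ Q) ∈ K.map T.subtype := by rw [h]; exact t.2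
    obtain ⟨k, hk, hkt⟩ := h1
    have h2 : k = t := Subtype.ext hkt
    rwa [← h2]

theorem nonab (s : Sit H Z L Q T) : ∃ a b : T, a * b ≠ b * a := by
  by_contra hcon
  push Not at hcon
  apply s.hT.ne_bot
  rw [eq_bot_iff]
  intro z hz
  rw [mem_bot]
  exact s.hT.centerless z hz (fun t ht => congrArg Subtype.val (hcon ⟨z, hz⟩ ⟨t, ht⟩))

theorem conj_inj (s : Sit H Z L Q T) : Function.Injective (MulAut.conj : T →* MulAut T) := by
  rw [injective_iff_map_eq_one]
  intro t ht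
  apply Subtype.ext
  apply s.hT.centerless t t.2
  intro u hu
  have h1 := DFunLike.congr_fun ht (⟨u, hu⟩ : T)
  have h2 : (t : G ⧸ Q) * u * (t : G ⧸ Q)⁻¹ = u := congrArg Subtype.val h1
  exact mul_inv_eq_iff_eq_mul.1 h2

theorem YY_equiv (s : Sit H Z L Q T) :
    Nonempty (((YY Z Q T).subgroupOf H) ≃* ((Z.map (QuotientGroup.mk' Q)).subgroupOf T)) := by
  let g : (YY Z Q T).subgroupOf H →* ((Z.map (QuotientGroup.mk' Q)).subgroupOf T) :=
    { toFun := fun y => ⟨⟨QuotientGroup.mk' Q ((y : H) : G), (mem_YY.1 y.2).2⟩,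
        mem_map_of_mem _ (mem_YY.1 y.2).1⟩
      map_one' := by
        apply Subtype.ext
        apply Subtype.ext
        exact map_one (QuotientGroup.mk' Q)
      map_mul' := fun a b => by
        apply Subtype.ext
        apply Subtype.ext
        exact map_mul (QuotientGroup.mk' Q) _ _ }
  refine ⟨MulEquiv.ofBijective g ⟨?_, ?_⟩⟩
  · intro a b hab
    apply Subtype.ext
    apply Subtype.ext
    have h1 : QuotientGroup.mk' Q ((a : H) : G) = QuotientGroup.mk' Q ((b : H) : G) :=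
      congrArg Subtype.val (congrArg Subtype.val hab)
    exact s.mk_inj (a : H).2 (b : H).2 h1
  · rintro ⟨⟨t, ht⟩, ⟨z, hz, hzt⟩⟩
    refine ⟨⟨⟨z, s.hZH hz⟩, ?_⟩, ?_⟩
    · show z ∈ YY Z Q T
      rw [mem_YY]
      refine ⟨hz, ?_⟩
      have h1 : QuotientGroup.mk' Q z = t := hzt
      rw [h1]
      exact ht
    · apply Subtype.ext
      apply Subtype.ext
      exact hzt

/-- The hypotheses on `Z` inside `H`. -/
structure ZMin (H Z : Subgroup G) : Prop where
  normal : (Z.subgroupOf H).Normal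
  min : ∀ M : Subgroup H, M.Normal → M ≤ Z.subgroupOf H → M = ⊥ ∨ M = Z.subgroupOf H
  na : ¬ ∀ x ∈ Z.subgroupOf H, ∀ y ∈ Z.subgroupOf H, Commute x y

theorem YY_pow (s : Sit H Z L Q T) (hZ : ZMin H Z) :
    ∃ (n : ℕ) (S : Subgroup H), IsSimpleGroup S ∧ (∃ a b : S, a * b ≠ b * a) ∧
      Nonempty ((YY Z Q T).subgroupOf H ≃* (Fin n → S)) := by
  have := hZ.normal
  refine exists_dirpow (Z.subgroupOf H) hZ.min hZ.na _ ?_ ?_
  · intro x hx
    exact (mem_YY.1 hx).1
  · refine le_normalizer_of ?_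
    intro n hn r hr
    exact s.YY_norm n (s.Z_le_NN hn) r hr

theorem exists_omega (s : Sit H Z L Q T) (hZ : ZMin H Z)
    (hPB : Cfsg.Agent.H324.Hall.PartB.{u}) (hT : ¬ T ≤ Z.map (QuotientGroup.mk' Q)) :
    ∃ (m : ℕ) (ω : Representation ℂ (NN H Q T) (Fin m → ℂ)), ω.IsIrreducible ∧
      (∀ b, ∀ hb : b ∈ BB Z Q T, ω ⟨b, s.BB_le hb⟩ = 1) ∧
      (∃ y, ∃ hy : y ∈ YY Z Q T, ω ⟨y, s.YY_le hy⟩ ≠ 1) ∧ m ∣ Nat.card H ∧
      ∀ (k : ℕ) (σ : T →* Matrix.GeneralLinearGroup (Fin k) ℂ), σ ≠ 1 → m < k := by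
  classical
  have hsimple := s.simple
  obtain ⟨n, S, hS1, hS2, ⟨e0⟩⟩ := s.YY_pow hZ
  obtain ⟨e1⟩ := s.YY_equiv
  let Y' : Subgroup T := (Z.map (QuotientGroup.mk' Q)).subgroupOf T
  let A : Subgroup (MulAut T) := (phi H Q T).range
  have hNH : Nat.card (NN H Q T) ∣ Nat.card H := card_dvd_of_le inf_le_left
  have hAN : Nat.card A ∣ Nat.card H := (Subgroup.card_range_dvd (phi H Q T)).trans hNH
  have hlift : ∀ y : T, y ∈ Y' → ∃ z, ∃ hz : z ∈ YY Z Q T,
      phi H Q T ⟨z, s.YY_le hz⟩ = MulAut.conj y := by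
    rintro ⟨t, ht⟩ ⟨z, hz, hzt⟩
    have h1 : QuotientGroup.mk' Q z = t := hzt
    refine ⟨z, mem_YY.2 ⟨hz, by rw [h1]; exact ht⟩, ?_⟩
    apply MulEquiv.ext
    intro u
    apply Subtype.ext
    rw [phi_apply]
    show QuotientGroup.mk' Q z * u * (QuotientGroup.mk' Q z)⁻¹ = t * u * t⁻¹
    rw [h1]
  have hA1 : ∀ y ∈ Y', MulAut.conj y ∈ A := by
    intro y hy
    obtain ⟨z, hz, h⟩ := hlift y hy
    exact ⟨_, h⟩
  have hY1 : Y' ≠ ⊥ := by
    intro h0
    apply s.Yb_ne_bot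
    rw [eq_bot_iff]
    rintro t ⟨ht1, ht2⟩
    have h1 : (⟨t, ht2⟩ : T) ∈ Y' := ht1
    rw [h0, mem_bot] at h1
    exact mem_bot.2 (congrArg Subtype.val h1)
  have hYT : Y' ≠ ⊤ := by
    intro h0
    apply hT
    intro t ht
    have h1 : (⟨t, ht⟩ : T) ∈ Y' := by rw [h0]; exact mem_top _
    exact h1
  have hYc : Nat.card Y' ∣ Nat.card H := by
    rw [← Nat.card_congr e1.toEquiv]
    exact Subgroup.card_subgroup_dvd_card _
  have hYi : Y'.index ∣ H.index := s.relIndex_T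
  have hcop : (Nat.card Y').Coprime Y'.index :=
    Nat.Coprime.coprime_dvd_left hYc (Nat.Coprime.coprime_dvd_right hYi s.hH)
  have hA2 : ∀ t : T, MulAut.conj t ∈ A → t ∈ Y' := by
    have h1 : A.comap (MulAut.conj : T →* MulAut T) ≤ Y' := by
      apply s.le_Yb
      · exact fun y hy => hA1 y hy
      · refine Dvd.dvd.trans ?_ hAN
        have h2 : Nat.card (A.comap (MulAut.conj : T →* MulAut T)) =
            Nat.card ((A.comap (MulAut.conj : T →* MulAut T)).map (MulAut.conj : T →* MulAut T)) :=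
          Nat.card_congr ((A.comap (MulAut.conj : T →* MulAut T)).equivMapOfInjective _ s.conj_inj).toEquiv
        rw [h2]
        exact card_dvd_of_le (map_comap_le _ _)
    exact fun t ht => h1 ht
  have hA3 : ∀ a ∈ A, ∀ y ∈ Y', a y ∈ Y' := by
    rintro _ ⟨n, rfl⟩ ⟨t, ht⟩ ⟨z, hz, hzt⟩
    refine ⟨n * z * (n : G)⁻¹, s.hZn n n.2.1 z hz, ?_⟩
    have h1 : QuotientGroup.mk' Q z = t := hzt
    rw [map_mul, map_mul, map_inv, h1]
    rfl
  have hA4 : (Nat.card A).Coprime Y'.index :=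
    Nat.Coprime.coprime_dvd_left hAN (Nat.Coprime.coprime_dvd_right hYi s.hH)
  obtain ⟨d, ρ0, ⟨y, hy, hρy⟩, hbd⟩ := hPB T s.nonab Y' hY1 hYT hcop n S hS2 ⟨e1.symm.trans e0⟩ A
    hA1 hA2 hA3 hA4
  -- a linear representation of `A`
  let ρ1 : Representation ℂ A (Fin d → ℂ) :=
    { toFun := fun a => Matrix.toLin' ((ρ0 a : Matrix (Fin d) (Fin d) ℂ))
      map_one' := by
        rw [map_one, Units.val_one, Matrix.toLin'_one]
        rfl
      map_mul' := fun a b => by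
        rw [map_mul, Units.val_mul, Matrix.toLin'_mul]
        rfl }
  have hρ1 : ρ1 ⟨MulAut.conj y, hA1 y hy⟩ ≠ 1 := by
    intro h0
    apply hρy
    apply Units.ext
    apply Matrix.toLin'.injective
    refine Eq.trans h0 ?_
    rw [Units.val_one, Matrix.toLin'_one]
    rfl
  obtain ⟨m, hm, τ, hτ, hτy⟩ := exists_irr ρ1 _ hρ1
  rw [Module.finrank_fin_fun] at hm
  refine ⟨m, τ.comp (phi H Q T).rangeRestrict, irr_comp_surj _ (phi H Q T).rangeRestrict_surjective τ hτ,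
    ?_, ?_, ?_, ?_⟩
  · intro b hb
    show τ ((phi H Q T).rangeRestrict ⟨b, s.BB_le hb⟩) = 1
    have h1 : (phi H Q T).rangeRestrict ⟨b, s.BB_le hb⟩ = 1 := by
      apply Subtype.ext
      apply MulEquiv.ext
      intro t
      apply Subtype.ext
      show QuotientGroup.mk' Q b * t * (QuotientGroup.mk' Q b)⁻¹ = t
      rw [← (mem_BB.1 hb).2 t t.2, mul_inv_cancel_right]
    rw [h1, map_one]
  · obtain ⟨z, hz, hzy⟩ := hlift y hy
    refine ⟨z, hz, ?_⟩
    show τ ((phi H Q T).rangeRestrict ⟨z, s.YY_le hz⟩) ≠ 1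
    have h1 : (phi H Q T).rangeRestrict ⟨z, s.YY_le hz⟩ = ⟨MulAut.conj y, hA1 y hy⟩ :=
      Subtype.ext hzy
    rw [h1]
    exact hτy
  · have h1 := Cfsg.Agent.S0135.result τ
    rw [Module.finrank_fin_fun] at h1
    exact h1.trans hAN
  · intro k σ hσ
    exact lt_of_le_of_lt hm (hbd k σ hσ)

/-- the centralizer of `B` covers `T` -/
theorem exists_cent (s : Sit H Z L Q T) {t : G ⧸ Q} (ht : t ∈ T) :
    ∃ x ∈ L, QuotientGroup.mk' Q x = t ∧ ∀ b ∈ BB Z Q T, b * x = x * b := by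
  obtain ⟨x, hx, hxt⟩ := s.hT.le ht
  have hcop : (Nat.card (BB Z Q T)).Coprime (Nat.card Q) :=
    Nat.Coprime.coprime_dvd_left (card_dvd_of_le (inf_le_left.trans s.hZH)) s.hQH
  obtain ⟨q, hq, h⟩ := conj_hom Q s.hQab hcop (BB Z Q T).subtype
    ((MulAut.conj x).toMonoidHom.comp (BB Z Q T).subtype) (by
      intro b
      show x * b * x⁻¹ * (b : G)⁻¹ ∈ Q
      rw [← QuotientGroup.eq_one_iff]
      show QuotientGroup.mk' Q (x * b * x⁻¹ * (b : G)⁻¹) = 1
      rw [map_mul, map_mul, map_mul, map_inv, map_inv]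
      have h1 : QuotientGroup.mk' Q x ∈ T := by
        have h2 : QuotientGroup.mk' Q x = t := hxt
        rw [h2]; exact ht
      rw [(mem_BB.1 b.2).2 _ h1, mul_inv_cancel_right, mul_inv_cancel])
  refine ⟨q⁻¹ * x, L.mul_mem (L.inv_mem (s.hQL hq)) hx, ?_, ?_⟩
  · rw [map_mul, map_inv]
    have h1 : QuotientGroup.mk' Q q = 1 := (QuotientGroup.eq_one_iff q).2 hq
    rw [h1, inv_one, one_mul]
    exact hxt
  · intro b hb
    have h1 : x * b * x⁻¹ = q * b * q⁻¹ := h ⟨b, hb⟩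
    have h2 : x * b = q * b * q⁻¹ * x := by rw [← h1]; group
    rw [mul_assoc, h2]
    group

theorem YY_perfect (s : Sit H Z L Q T) (hZ : ZMin H Z) : YY Z Q T ≤ ⁅YY Z Q T, YY Z Q T⁆ := by
  obtain ⟨n, S, hS1, hS2, ⟨e0⟩⟩ := s.YY_pow hZ
  have h1 := commutator_pow hS2 e0
  have hle : YY Z Q T ≤ H := inf_le_left.trans s.hZH
  have h2 : ((YY Z Q T).subgroupOf H).map H.subtype = YY Z Q T := by
    rw [subgroupOf_map_subtype, inf_eq_left.2 hle]
  have h3 := map_subtype_commutator ((YY Z Q T).subgroupOf H)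
  rw [h1, ← MonoidHom.range_eq_map, range_subtype] at h3
  rw [← h2, ← map_commutator, ← h3]

theorem false (s : Sit H Z L Q T) (hZ : ZMin H Z)
    (hPB : Cfsg.Agent.H324.Hall.PartB.{u}) (hT : ¬ T ≤ Z.map (QuotientGroup.mk' Q)) : False := by
  classical
  have hsimple := s.simple
  obtain ⟨m, ω, hω, hωB, hωY, hm, hbd⟩ := s.exists_omega hZ hPB hT
  obtain ⟨n, τ, j, hτ, hj0, hj⟩ := exists_over (inf_le_left : NN H Q T ≤ H) ω hω
  obtain ⟨ρ, hρ⟩ := s.hE.exists_rep τ hτ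
  have hρH : Representation.IsIrreducible (ρ.comp H.subtype : Representation ℂ H (Fin n → ℂ)) := by
    have : (ρ.comp H.subtype : Representation ℂ H (Fin n → ℂ)) = τ := by
      ext h : 1
      exact hρ h
    rw [this]
    exact hτ
  have hj' : ∀ (x : NN H Q T) (w : Fin m → ℂ), j (ω x w) = ρ (x : G) (j w) := by
    intro x w
    exact (hj x w).trans (LinearMap.congr_fun (hρ ⟨(x : G), x.2.1⟩) (j w)).symm
  have hjinj : Function.Injective j := by
    rw [← LinearMap.ker_eq_bot]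
    let S : Subrepresentation ω := ⟨LinearMap.ker j, fun x w hw => by
      rw [LinearMap.mem_ker] at hw ⊢
      rw [hj', hw, map_zero]⟩
    rcases hω.eq_bot_or_eq_top S with h | h
    · exact congrArg Subrepresentation.toSubmodule h
    · exfalso
      apply hj0
      have h2 : LinearMap.ker j = ⊤ := congrArg Subrepresentation.toSubmodule h
      exact LinearMap.ker_eq_top.1 h2
  -- the fixed points of `B`
  let M : Submodule ℂ (Fin n → ℂ) :=
    { carrier := {v | ∀ b ∈ BB Z Q T, ρ b v = v}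
      add_mem' := fun {v w} hv hw b hb => by rw [map_add, hv b hb, hw b hb]
      zero_mem' := fun b hb => by rw [map_zero]
      smul_mem' := fun c v hv b hb => by rw [map_smul, hv b hb] }
  have hMmem : ∀ v, v ∈ M ↔ ∀ b ∈ BB Z Q T, ρ b v = v := fun v => Iff.rfl
  have hMr : M = LinearMap.range j := by
    apply le_antisymm
    · intro v hv
      exact mem_range_of_fixed ρ hρH s.BB_le s.YY_le s.YY_norm ω hω hωB hωY s.out j hj' hj0 hv
    · rintro _ ⟨w, rfl⟩ b hb
      have h1 := hj' ⟨b, s.BB_le hb⟩ w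
      rw [hωB b hb] at h1
      exact h1.symm
  let X : Subgroup G := normalizer ((BB Z Q T : Subgroup G) : Set G)
  have hXM : ∀ x : X, ∀ v ∈ M, (ρ.comp X.subtype : Representation ℂ X (Fin n → ℂ)) x v ∈ M := by
    intro x v hv b hb
    have h1 : (x : G)⁻¹ * b * x ∈ BB Z Q T := by
      have h2 := (mem_normalizer_iff.1 (X.inv_mem x.2) b).1 hb
      rwa [inv_inv] at h2
    show ρ b (ρ (x : G) v) = ρ (x : G) v
    have h3 : ρ b (ρ (x : G) v) = ρ (x : G) (ρ ((x : G)⁻¹ * b * x) v) := by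
      rw [← Module.End.mul_apply, ← Module.End.mul_apply, ← map_mul, ← map_mul]
      congr 2
      group
    rw [h3, hv _ h1]
  let ρM : Representation ℂ X M := H120.subRep (ρ.comp X.subtype : Representation ℂ X (Fin n → ℂ)) M hXM
  have hNX : NN H Q T ≤ X := le_normalizer_of s.BB_norm
  let N' : Subgroup X := (NN H Q T).subgroupOf X
  -- the equivalence of `W` and `M`
  let jM : (Fin m → ℂ) ≃ₗ[ℂ] M :=
    (LinearEquiv.ofInjective j hjinj).trans (LinearEquiv.ofEq _ _ hMr.symm)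
  have hjM : ∀ w, ((jM w : M) : Fin n → ℂ) = j w := fun w => rfl
  let eN : N' ≃* NN H Q T := subgroupOfEquivOfLe hNX
  have hNirr : Representation.IsIrreducible (ρM.comp N'.subtype : Representation ℂ N' M) := by
    have h1 : Representation.IsIrreducible (ω.comp (eN : N' →* NN H Q T) :
        Representation ℂ N' (Fin m → ℂ)) := irr_comp_surj _ eN.surjective ω hω
    refine Characters.Core.isIrreducible_of_equiv (Representation.Equiv.mk jM ?_) h1
    intro x
    apply LinearMap.ext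
    intro w
    apply Subtype.ext
    exact hj' (eN x) w
  -- the groups `C` and `R`
  let C : Subgroup G := (L ⊓ T.comap (QuotientGroup.mk' Q)) ⊓ centralizer ((BB Z Q T : Subgroup G) : Set G)
  let R : Subgroup G := Q ⊓ centralizer ((BB Z Q T : Subgroup G) : Set G)
  have hCmem : ∀ x, x ∈ C ↔ (x ∈ L ∧ QuotientGroup.mk' Q x ∈ T) ∧ ∀ b ∈ BB Z Q T, b * x = x * b := by
    intro x
    rw [mem_inf, mem_centralizer_iff]
    rfl
  have hRmem : ∀ x, x ∈ R ↔ x ∈ Q ∧ ∀ b ∈ BB Z Q T, b * x = x * b := by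
    intro x
    rw [mem_inf, mem_centralizer_iff]
    rfl
  have hXcent : ∀ x ∈ X, ∀ c, (∀ b ∈ BB Z Q T, b * c = c * b) →
      ∀ b ∈ BB Z Q T, b * (x * c * x⁻¹) = x * c * x⁻¹ * b := by
    intro x hx c hc b hb
    have h1 : x⁻¹ * b * x ∈ BB Z Q T := by
      have h2 := (mem_normalizer_iff.1 (X.inv_mem hx) b).1 hb
      rwa [inv_inv] at h2
    have h3 := hc _ h1
    have h4 : b * (x * c * x⁻¹) = x * (x⁻¹ * b * x * c) * x⁻¹ := by group
    have h5 : x * c * x⁻¹ * b = x * (c * (x⁻¹ * b * x)) * x⁻¹ := by group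
    rw [h4, h5, h3]
  have hXR : ∀ x ∈ X, ∀ r ∈ R, x * r * x⁻¹ ∈ R := by
    intro x hx r hr
    rw [hRmem] at hr ⊢
    exact ⟨hQn.conj_mem r hr.1 x, hXcent x hx r hr.2⟩
  have hCX : C ≤ X := inf_le_right.trans (centralizer_le_normalizer _)
  have hRC : R ≤ C := by
    intro r hr
    rw [hRmem] at hr
    rw [hCmem]
    refine ⟨⟨s.hQL hr.1, ?_⟩, hr.2⟩
    rw [show QuotientGroup.mk' Q r = 1 from (QuotientGroup.eq_one_iff r).2 hr.1]
    exact T.one_mem
  let C' : Subgroup X := C.subgroupOf X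
  let R' : Subgroup X := R.subgroupOf X
  have hR'n : (⊤ : Subgroup X) ≤ normalizer ((R' : Subgroup X) : Set X) :=
    le_normalizer_of (fun x _ r hr => hXR x x.2 r hr)
  have hR'c : IsMulCommutative R' := by
    refine ⟨⟨fun a b => ?_⟩⟩
    apply Subtype.ext
    apply Subtype.ext
    exact s.hQab _ ((hRmem _).1 a.2).1 _ ((hRmem _).1 b.2).1
  have hfr : finrank ℂ M = m := by
    rw [← jM.finrank_eq, Module.finrank_fin_fun]
  have hcop : (finrank ℂ M).Coprime (Nat.card R') := by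
    rw [hfr]
    refine Nat.Coprime.coprime_dvd_left hm (Nat.Coprime.coprime_dvd_right ?_ s.hQH)
    rw [Nat.card_congr (subgroupOfEquivOfLe (hRC.trans hCX)).toEquiv]
    exact card_dvd_of_le inf_le_left
  let π : C' →* T :=
    { toFun := fun c => ⟨QuotientGroup.mk' Q ((c : X) : G), ((hCmem _).1 c.2).1.2⟩
      map_one' := Subtype.ext (map_one (QuotientGroup.mk' Q))
      map_mul' := fun a b => Subtype.ext (map_mul (QuotientGroup.mk' Q) _ _) }
  have hπ : Function.Surjective π := by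
    rintro ⟨t, ht⟩
    obtain ⟨x, hxL, hxt, hxb⟩ := s.exists_cent ht
    have hxC : x ∈ C := (hCmem x).2 ⟨⟨hxL, by rw [hxt]; exact ht⟩, hxb⟩
    exact ⟨⟨⟨x, hCX hxC⟩, hxC⟩, Subtype.ext hxt⟩
  have hker : ∀ c : C', π c = 1 ↔ (c : X) ∈ R' := by
    intro c
    constructor
    · intro h
      have h1 : QuotientGroup.mk' Q ((c : X) : G) = 1 := congrArg Subtype.val h
      exact (hRmem _).2 ⟨(QuotientGroup.eq_one_iff _).1 h1, ((hCmem _).1 c.2).2⟩
    · intro h
      apply Subtype.ext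
      exact (QuotientGroup.eq_one_iff _).2 ((hRmem _).1 h).1
  -- the element of `Y`
  obtain ⟨y, hy, hyω⟩ := hωY
  have hYC : YY Z Q T ≤ C := by
    intro x hx
    rw [hCmem]
    refine ⟨⟨s.hZL hx.1, (mem_YY.1 hx).2⟩, fun b hb => ?_⟩
    have hxH := s.hZH hx.1
    have hbH := s.hZH (mem_BB.1 hb).1
    apply s.mk_inj (H.mul_mem hbH hxH) (H.mul_mem hxH hbH)
    rw [map_mul, map_mul]
    exact ((mem_BB.1 hb).2 _ (mem_YY.1 hx).2).symm
  have hyX : y ∈ X := hCX (hYC hy)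
  have hycomm : (⟨y, hyX⟩ : X) ∈ ⁅C', C'⁆ := by
    have h1 : y ∈ ⁅C, C⁆ := commutator_mono hYC hYC (s.YY_perfect hZ hy)
    have h2 : (⁅C', C'⁆).map X.subtype = ⁅C, C⁆ := by
      rw [map_commutator]
      have h3 : C'.map X.subtype = C := by
        show (C.subgroupOf X).map X.subtype = C
        rw [subgroupOf_map_subtype, inf_eq_left.2 hCX]
      rw [h3]
    rw [← h2] at h1
    obtain ⟨x, hx, hxy⟩ := h1
    have h4 : x = ⟨y, hyX⟩ := Subtype.ext hxy
    rwa [← h4]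
  have hyM : ρM ⟨y, hyX⟩ ≠ 1 := by
    intro h0
    apply hyω
    apply LinearMap.ext
    intro w
    apply hjinj
    rw [hj' ⟨y, s.YY_le hy⟩ w]
    have h1 := LinearMap.congr_fun h0 (jM w)
    exact congrArg Subtype.val h1
  obtain ⟨k, σ, hk, hσ⟩ := Weights.exists_small_rep (ρ := ρM) (R := R') N' C' (le_top.trans hR'n)
    (le_top.trans hR'n) hNirr hcop π hπ hker (commutator_simple s.nonab) hycomm hyM
  have h2 := hbd k σ hσ
  rw [hfr] at hk
  omega

end Sit

end Cfsg.Agent.H715
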