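import Mathlib
import Cfsg.Agent.H715.Cases
import Cfsg.Agent.H715.MainCase

/-!
# The reduction theorem (helper715)

`main` : if all irreducible characters of the Hall subgroup `H` of the finite group `G` extend to
`G`, then `H` has a normal complement (granted the statement `PartB` on simple groups).
-/

set_option autoImplicit false
set_option linter.unusedSectionVars false

namespace Cfsg.Agent.H715

open Subgroup Cfsg.Agent.H386.Factor Cfsg.Agent.Lib.MinNormalNonabelian

universe u

theorem step (hPB : Cfsg.Agent.H324.Hall.PartB.{u}) {G : Type u} [Group G] [Finite G] (ih : IH G)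
    (H : Subgroup G) (hH : (Nat.card H).Coprime H.index) (hE : Ext H) : Compl H := by
  classical
  by_contra hcompl
  have hH1 : H ≠ ⊥ := by
    rintro rfl
    exact hcompl ⟨⊤, inferInstance, by simp, by simp⟩
  have hnt : Nontrivial H := (Subgroup.nontrivial_iff_ne_bot H).2 hH1
  have hk : kap H = ⊥ := by
    by_contra h
    exact hcompl (compl_of_kap ih hH hE h)
  obtain ⟨Z0, hZ0n, hZ0, hZ0min⟩ := exists_min_normal (G := H)
  let Z : Subgroup G := Z0.map H.subtype
  have hZH : Z ≤ H := map_subtype_le Z0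
  have hZ0Z : Z.subgroupOf H = Z0 := by
    show (Z0.map H.subtype).subgroupOf H = Z0
    rw [subgroupOf, comap_map_eq_self_of_injective H.subtype_injective]
  have hn : ∀ h ∈ H, ∀ z ∈ Z, h * z * h⁻¹ ∈ Z := by
    rintro h hh _ ⟨z, hz, rfl⟩
    exact ⟨⟨h, hh⟩ * z * ⟨h, hh⟩⁻¹, hZ0n.conj_mem z hz ⟨h, hh⟩, rfl⟩
  have hZ : Z ≠ ⊥ := by
    intro h
    exact hZ0 ((Subgroup.map_eq_bot_iff_of_injective Z0 H.subtype_injective).1 h)
  obtain ⟨K, hK, hLK, hs, hHK⟩ := exists_K ih hH hE hZH hn hZ
  by_cases hab : ∀ x ∈ Z0, ∀ y ∈ Z0, Commute x y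
  · -- the soluble case
    obtain ⟨p, hp, hpZ, -⟩ := abelian_structure Z0 hZ0 hZ0min hab
    have := Fact.mk hp
    apply hcompl
    refine compl_of_pgroup hH hE hZH hn hK hHK hs (hpZ.map _) hZ ?_
    rintro _ ⟨x, hx, rfl⟩ _ ⟨y, hy, rfl⟩
    have h1 := (hab x hx y hy).eq
    exact congrArg Subtype.val h1
  · -- the nonsoluble case
    let L : Subgroup G := normalClosure (Z : Set G)
    have hHL : H ⊓ L = Z := hE.inf_normalClosure hZH hn
    -- the key property of `Z`
    have hkey : ∀ M : Subgroup G, M.Normal → M ⊓ H ≠ ⊥ → L ≤ M := by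
      intro M hM hMH
      have hM1 : ((M ⊓ H).subgroupOf H).Normal := by
        constructor
        intro x hx g
        exact ⟨hM.conj_mem x hx.1 g, (g * x * g⁻¹).2⟩
      have hM2 : (M ⊓ H).subgroupOf H ⊓ Z0 ≠ ⊥ := by
        intro h0
        have hn1 : ∀ h ∈ H, ∀ z ∈ M ⊓ H, h * z * h⁻¹ ∈ M ⊓ H := fun h hh z hz =>
          ⟨hM.conj_mem z hz.1 h, H.mul_mem (H.mul_mem hh hz.2) (H.inv_mem hh)⟩
        obtain ⟨K1, hK1, -, hs1, hHK1⟩ := exists_K ih hH hE (inf_le_right : M ⊓ H ≤ H) hn1 hMH
        apply hcompl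
        refine compl_of_two hH hK1 hK hs1 hs ?_
        rw [hHK1, hHK, eq_bot_iff]
        rintro x ⟨hx1, hx2⟩
        have h2 : (⟨x, hx1.2⟩ : H) ∈ (M ⊓ H).subgroupOf H ⊓ Z0 := by
          refine ⟨hx1, ?_⟩
          rw [← hZ0Z]
          exact hx2
        rw [h0, mem_bot] at h2
        exact mem_bot.2 (congrArg Subtype.val h2)
      have hM3 : (M ⊓ H).subgroupOf H ⊓ Z0 = Z0 :=
        (hZ0min _ inferInstance inf_le_right).resolve_left hM2
      have hZM : Z ≤ M := by
        rintro _ ⟨z, hz, rfl⟩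
        rw [← hM3] at hz
        exact hz.1.1
      exact normalClosure_le_normal hZM
    -- the radical
    have hfin : {Q : Subgroup G | Q.Normal ∧ Q ≤ L ∧ Q ⊓ H = ⊥}.Finite := Set.toFinite _
    obtain ⟨Q, ⟨hQn, hQL, hQH0⟩, hQmax⟩ := hfin.exists_maximal ⟨⊥, inferInstance, bot_le, bot_inf_eq _⟩
    have hQH : (Nat.card H).Coprime (Nat.card Q) := by
      refine Nat.Coprime.coprime_dvd_right ?_ hH
      have h1 := relIndex_dvd_index' H Q
      rwa [← inf_relIndex_right, inf_comm, hQH0, relIndex_bot_left] at h1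
    have hQab := comm_of_coprime hk (N := Q) hQH.symm
    have hLn : L.Normal := normalClosure_normal
    have hmin : ∀ M : Subgroup (G ⧸ Q), M.Normal → M ≤ L.map (QuotientGroup.mk' Q) →
        M = ⊥ ∨ M = L.map (QuotientGroup.mk' Q) := by
      intro M hM hML
      have hM0n : (M.comap (QuotientGroup.mk' Q)).Normal := hM.comap _
      have hsurj := QuotientGroup.mk'_surjective Q
      have hmap : (M.comap (QuotientGroup.mk' Q)).map (QuotientGroup.mk' Q) = M :=
        map_comap_eq_self_of_surjective hsurj M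
      have hM0L : M.comap (QuotientGroup.mk' Q) ≤ L := by
        intro x hx
        obtain ⟨l, hl, hlx⟩ := hML hx
        have h1 : l⁻¹ * x ∈ Q := QuotientGroup.eq.1 hlx
        have h2 := L.mul_mem hl (hQL h1)
        simpa using h2
      by_cases h0 : M.comap (QuotientGroup.mk' Q) ⊓ H = ⊥
      · left
        have hQM : Q ≤ M.comap (QuotientGroup.mk' Q) := by
          intro x hx
          show QuotientGroup.mk' Q x ∈ M
          rw [show QuotientGroup.mk' Q x = 1 from (QuotientGroup.eq_one_iff x).2 hx]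
          exact M.one_mem
        have h1 : M.comap (QuotientGroup.mk' Q) ≤ Q := hQmax ⟨hM0n, hM0L, h0⟩ hQM
        rw [eq_bot_iff, ← hmap]
        rintro _ ⟨x, hx, rfl⟩
        exact mem_bot.2 ((QuotientGroup.eq_one_iff x).2 (h1 hx))
      · right
        apply le_antisymm hML
        rw [← hmap]
        exact map_mono (hkey _ hM0n h0)
    have hinter : ∀ x ∈ H, x ∈ Q → x = 1 := by
      intro x hx hxQ
      have h1 : x ∈ Q ⊓ H := ⟨hxQ, hx⟩
      rwa [hQH0, mem_bot] at h1
    have hna : ¬ ∀ x ∈ L.map (QuotientGroup.mk' Q), ∀ y ∈ L.map (QuotientGroup.mk' Q),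
        Commute x y := by
      intro hcomm
      apply hab
      intro x hx y hy
      have hxL : (x : G) ∈ L := subset_normalClosure ⟨x, hx, rfl⟩
      have hyL : (y : G) ∈ L := subset_normalClosure ⟨y, hy, rfl⟩
      have h1 := (hcomm _ (mem_map_of_mem (QuotientGroup.mk' Q) hxL) _
        (mem_map_of_mem (QuotientGroup.mk' Q) hyL)).eq
      rw [← map_mul, ← map_mul] at h1
      have h2 : ((x : G) * y)⁻¹ * (y * x) ∈ Q := QuotientGroup.eq.1 h1
      have h3 := hinter _ (H.mul_mem (H.inv_mem (H.mul_mem x.2 y.2)) (H.mul_mem y.2 x.2)) h2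
      apply Subtype.ext
      exact inv_mul_eq_one.1 h3
    have hLbn : (L.map (QuotientGroup.mk' Q)).Normal := hLn.map _ (QuotientGroup.mk'_surjective Q)
    obtain ⟨T, hT⟩ := exists_factor (L.map (QuotientGroup.mk' Q)) hmin hna
    have s : Sit H Z L Q T :=
      { hH := hH, hE := hE, hZH := hZH, hZn := hn, hZ := hZ, hL := hLn, hHL := hHL, hQL := hQL
        hQab := hQab, hQH := hQH, hT := hT, hmin := hmin, hna := hna }
    have hZmin : Sit.ZMin H Z :=
      { normal := by rw [hZ0Z]; exact hZ0n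
        min := by rw [hZ0Z]; exact hZ0min
        na := by rw [hZ0Z]; exact hab }
    by_cases hTZ : T ≤ Z.map (QuotientGroup.mk' Q)
    · apply hcompl
      have hZQ := s.eq_L_of_le hTZ
      refine compl_of_inner hH hE hZH hn hK hHK hs hQn hQab hQH (hQL.trans hLK)
        (by rw [hZQ]; exact hLn) ?_
      -- `Z` is centerless
      intro z hz hzc
      obtain ⟨z0, hz0, rfl⟩ := hz
      have hcn : (Z0 ⊓ centralizer (Z0 : Set H)).Normal := inferInstance
      rcases hZ0min _ hcn inf_le_left with h | h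
      · have h1 : z0 ∈ Z0 ⊓ centralizer (Z0 : Set H) := by
          refine mem_inf.2 ⟨hz0, ?_⟩
          rw [mem_centralizer_iff]
          intro t ht
          exact Subtype.ext (hzc t ⟨t, ht, rfl⟩).symm
        rw [h, mem_bot] at h1
        rw [h1]
        rfl
      · exfalso
        apply hab
        intro x hx y hy
        rw [← h] at hy
        exact (mem_centralizer_iff.1 hy.2 x hx)
    · exact s.false hZmin hPB hTZ

/-- **The reduction.** -/
theorem main (hPB : Cfsg.Agent.H324.Hall.PartB.{u}) {G : Type u} [Group G] [Finite G]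
    (H : Subgroup G) (hH : (Nat.card H).Coprime H.index) (hE : Ext H) : Compl H := by
  have key : ∀ (n : ℕ) (G : Type u) [Group G] [Finite G], Nat.card G = n → ∀ H : Subgroup G,
      (Nat.card H).Coprime H.index → Ext H → Compl H := by
    intro n
    induction n using Nat.strong_induction_on with
    | _ n ihn =>
      intro G _ _ hG H hH hE
      refine step hPB ?_ H hH hE
      intro G' _ _ hlt H' hH' hE'
      exact ihn (Nat.card G') (hG ▸ hlt) G' rfl H' hH' hE'
  exact key _ G rfl H hH hE

end Cfsg.Agent.H715
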